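import Mathlib
import Cfsg.Prelude.Def_CaseTheorems
import Cfsg.Agent.Lib.PGroup.ElemAbelian
import Cfsg.Agent.Lib.PLemmas.NormalSeries
import Cfsg.Agent.Lib.PLemmas.AlperinExponent
import Cfsg.Agent.Lib.Core.Nilpotent
import Cfsg.Agent.Lib.Coprime.Generation
import Cfsg.Agent.Lib.PGroupNormalSq.Basic

/-!
Normal elementary abelian subgroups of `p`-groups: order `p²` when the rank is at least 3 (any prime),
order at least 81 in 3-groups of rank at least 4.
-/

set_option autoImplicit false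

namespace Cfsg.Agent.Lib.NormalElem

open Subgroup Cfsg
open scoped commutatorElement

variable {G : Type*} [Group G] [Finite G] {p : ℕ} [hp : Fact p.Prime]

omit hp in
theorem exists_max (p : ℕ) : ∃ A : Subgroup G, A.Normal ∧ IsElementaryAbelian p A ∧
    ∀ B : Subgroup G, B.Normal → IsElementaryAbelian p B → A ≤ B → B = A := by
  obtain ⟨A, hA⟩ := (Set.toFinite {B : Subgroup G | B.Normal ∧ IsElementaryAbelian p B}).exists_maximal
    ⟨⊥, inferInstance, ElemAbelian.bot⟩
  exact ⟨A, hA.1.1, hA.1.2, fun B hBn hB hle => le_antisymm (hA.2 ⟨hBn, hB⟩ hle) hle⟩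

/-- An element of `p`-power order in `A` central in a `p`-group, for `|A| = p`. -/
theorem le_center_of_card_prime (hG : IsPGroup p G) {A : Subgroup G} [A.Normal]
    (hA : Nat.card A ≤ p) : A ≤ center G := by
  by_cases hbot : A = ⊥
  · rw [hbot]; exact bot_le
  obtain ⟨z, hzA, hzc, hz1⟩ := Critical.exists_center_mem hG hbot
  have hzp : p ≤ orderOf z := by
    obtain ⟨k, hk⟩ := IsPGroup.iff_orderOf.1 hG z
    cases k with
    | zero => rw [pow_zero, orderOf_eq_one_iff] at hk; exact absurd hk hz1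
    | succ k => rw [hk]; exact Nat.le_self_pow k.succ_ne_zero p
  have : zpowers z = A :=
    eq_of_le_of_card_ge (zpowers_le.2 hzA) (hA.trans (hzp.trans (Nat.card_zpowers z).ge))
  rw [← this]
  exact zpowers_le.2 hzc

/-- `[g, a] ∈ K` when `K` has index at most `p` in the normal subgroup `A`. -/
theorem commutator_mem_of_index_le (hG : IsPGroup p G) {K A : Subgroup G} [K.Normal] [A.Normal]
    (h : Nat.card A ≤ p * Nat.card K) (hKA : K ≤ A) (g : G) {a : G} (ha : a ∈ A) :
    g * a * g⁻¹ * a⁻¹ ∈ K := by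
  haveI : (A.map (QuotientGroup.mk' K)).Normal :=
    Subgroup.Normal.map inferInstance _ (QuotientGroup.mk'_surjective K)
  have hcard : Nat.card (A.map (QuotientGroup.mk' K)) ≤ p := by
    have h1 : Nat.card (A.map (QuotientGroup.mk' K)) * Nat.card K = Nat.card A := by
      have e := ((QuotientGroup.mk' K).comp A.subtype).ker.card_mul_index
      rw [Subgroup.index_ker, MonoidHom.range_comp, range_subtype, ← MonoidHom.comap_ker,
        QuotientGroup.ker_mk'] at e
      change Nat.card (K.subgroupOf A) * _ = _ at e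
      rw [Nat.card_congr (subgroupOfEquivOfLe hKA).toEquiv, mul_comm] at e
      exact e
    exact Nat.le_of_mul_le_mul_right (h1.le.trans h) Nat.card_pos
  have hc := le_center_of_card_prime (hG.to_quotient K) hcard ⟨a, ha, rfl⟩
  rw [← QuotientGroup.eq_one_iff]
  have h2 := mem_center_iff.1 hc (g : G ⧸ K)
  simp only [QuotientGroup.mk'_apply] at h2
  simp only [QuotientGroup.mk_mul, QuotientGroup.mk_inv]
  rw [h2]
  group

omit hp in
theorem exists_elem_of_not_pRankLE {k : ℕ} (h : ¬ PRankLE p k G) :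
    ∃ E : Subgroup G, IsElementaryAbelian p E ∧ p ^ k < Nat.card E := by
  simp only [PRankLE] at h
  push Not at h
  obtain ⟨E, hc, he, hcard⟩ := h
  exact ⟨E, ⟨hc, he⟩, hcard⟩

/-- A `p`-group of rank at least 3 has a normal subgroup of type `(p, p)`; any prime. -/
theorem exists_normal_card_sq (hG : IsPGroup p G) {E : Subgroup G}
    (hE : IsElementaryAbelian p E) (hcard : p ^ 2 < Nat.card E) :
    ∃ U : Subgroup G, U.Normal ∧ IsElementaryAbelian p U ∧ Nat.card U = p ^ 2 := by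
  classical
  have hp2 := hp.out.two_le
  obtain ⟨A, hAn, hA, hmax⟩ := exists_max (G := G) p
  obtain ⟨a, ha⟩ := IsPGroup.iff_card.1 (hG.to_subgroup A)
  by_cases ha2 : 2 ≤ a
  · obtain ⟨K, hKn, hKA, hK⟩ := PLemmas.exists_normal_le_card_eq hG A ha ha2
    exact ⟨K, hKn, ElemAbelian.mono hA hKA, hK⟩
  have hAp : Nat.card A ≤ p := ha ▸ (Nat.pow_le_pow_right hp.out.pos (by omega : a ≤ 1)).trans
    (pow_one p).le
  have hAc : A ≤ center G := le_center_of_card_prime hG hAp
  haveI := hG.isNilpotent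
  obtain ⟨D, hD⟩ := (Set.toFinite {B : Subgroup G | B.Normal ∧ IsMulCommutative B ∧ A ≤ B}).exists_maximal
    ⟨A, hAn, hA.1, le_rfl⟩
  obtain ⟨hDn, hDc, hAD⟩ := hD.1
  have hCD : centralizer (D : Set G) = D :=
    Nilp.centralizer_eq_of_maximal_abelian_normal D fun M hMn hMc hle =>
      le_antisymm (hD.2 ⟨hMn, hMc, hAD.trans hle⟩ hle) hle
  have hDmul : ∀ u ∈ D, ∀ v ∈ D, u * v = v * u := fun u hu v hv =>
    congrArg Subtype.val (hDc.is_comm.comm (⟨u, hu⟩ : D) ⟨v, hv⟩)
  have hroots : ∀ x ∈ D, x ^ p = 1 → x ∈ A := by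
    intro x hx hxp
    let Ω : Subgroup G :=
      { carrier := {y | y ∈ D ∧ y ^ p = 1}
        one_mem' := ⟨one_mem _, one_pow p⟩
        mul_mem' := fun {u v} hu hv => ⟨mul_mem hu.1 hv.1, by
          rw [(show Commute u v from hDmul u hu.1 v hv.1).mul_pow, hu.2, hv.2, one_mul]⟩
        inv_mem' := fun {u} hu => ⟨inv_mem hu.1, by rw [inv_pow, hu.2, inv_one]⟩ }
    have hΩ : IsElementaryAbelian p Ω :=
      ElemAbelian.of_comm_of_pow (fun u hu v hv => hDmul u hu.1 v hv.1) (fun u hu => hu.2)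
    have hΩn : Ω.Normal := ⟨fun u hu g => ⟨hDn.conj_mem u hu.1 g, by
      rw [conj_pow, hu.2, mul_one, mul_inv_cancel]⟩⟩
    have := hmax Ω hΩn hΩ fun u hu => ⟨hAD hu, hA.2 u hu⟩
    rw [← this]
    exact ⟨hx, hxp⟩
  haveI := hDc
  have hDcyc : IsCyclic D := by
    by_contra hnc
    obtain ⟨q, hq, u, hu, v, hv, huq, hvq, hv1, huv⟩ := Coprime.exists_pair_of_not_isCyclic hnc
    have hqp : q = p := by
      obtain ⟨k, hk⟩ := IsPGroup.iff_orderOf.1 hG v
      haveI := Fact.mk hq
      rw [orderOf_eq_prime hvq hv1] at hk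
      exact (Nat.prime_dvd_prime_iff_eq hq hp.out).1 (hq.dvd_of_dvd_pow ((dvd_refl q).trans hk.dvd))
    subst hqp
    have hvA := hroots v hv hvq
    refine huv (le_of_eq (eq_of_le_of_card_ge (zpowers_le.2 hvA) ?_).symm (hroots u hu huq))
    rw [Nat.card_zpowers, orderOf_eq_prime hvq hv1]
    exact hAp
  obtain ⟨d₀, hd₀⟩ := hDcyc.exists_generator
  obtain ⟨d, hdD, hgen⟩ : ∃ d ∈ D, ∀ x ∈ D, ∃ j : ℕ, d ^ j = x := by
    refine ⟨d₀, d₀.2, fun x hx => ?_⟩
    obtain ⟨j, hj⟩ := (Submonoid.mem_powers_iff _ _).1 (mem_powers_iff_mem_zpowers.2 (hd₀ ⟨x, hx⟩))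
    exact ⟨j, congrArg Subtype.val hj⟩
  obtain ⟨n, hn⟩ := IsPGroup.iff_orderOf.1 hG d
  have hcomp : ∀ x ∈ D, ∀ f : G, f * d = d * f → f * x = x * f := by
    intro x hx f hf
    obtain ⟨j, rfl⟩ := hgen x hx
    exact (Commute.pow_right (hf : Commute f d) j).eq
  have hEnotD : Nat.card (E ⊓ D : Subgroup G) ≤ p :=
    (card_le_of_le (show E ⊓ D ≤ A from fun x hx => hroots x hx.2 (hE.2 x hx.1))).trans hAp
  have hn2 : 2 ≤ n := by
    by_contra hn2
    -- then `D = A` is central
    have hDA : D ≤ A := fun x hx => by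
      obtain ⟨j, rfl⟩ := hgen x hx
      refine pow_mem (hroots d hdD (orderOf_dvd_iff_pow_eq_one.1 ?_)) j
      rw [hn]
      exact (pow_dvd_pow p (by omega : n ≤ 1)).trans (pow_one p).dvd
    have : E ≤ D := fun x _ => by
      rw [← hCD, mem_centralizer_iff]
      intro u hu
      exact (mem_center_iff.1 (hAc (hDA hu)) x).symm
    rw [inf_eq_left.2 this] at hEnotD
    exact absurd (hcard.trans_le hEnotD) (not_lt.2 (Nat.le_self_pow two_ne_zero p))
  set d2 := d ^ p ^ (n - 2) with hd2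
  have hd2D : d2 ∈ D := pow_mem hdD _
  have hd2o : orderOf d2 = p ^ 2 := by
    rw [hd2, orderOf_pow_of_dvd (pow_ne_zero _ hp.out.ne_zero)
      (hn ▸ pow_dvd_pow p (Nat.sub_le n 2)), hn]
    exact Nat.div_eq_of_eq_mul_left (pow_pos hp.out.pos _) (by
      rw [← pow_add]; congr 1; omega)
  -- an element of `E` outside `D` centralizing `d2`
  have hψ : ∀ e ∈ E, e * d2 * e⁻¹ * d2⁻¹ ∈ A := by
    intro e _
    have hcD : e * d2 * e⁻¹ ∈ D := hDn.conj_mem _ hd2D e
    refine hroots _ (mul_mem hcD (inv_mem hd2D)) ?_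
    rw [(show Commute (e * d2 * e⁻¹) d2⁻¹ from (show Commute _ d2 from hDmul _ hcD _ hd2D).inv_right).mul_pow,
      conj_pow, inv_pow]
    have hdp : d2 ^ p ∈ A := hroots _ (pow_mem hd2D p) (by
      rw [← pow_mul, ← pow_two, ← hd2o, pow_orderOf_eq_one])
    rw [mem_center_iff.1 (hAc hdp) e, mul_inv_cancel_right, mul_inv_cancel]
  let ψ : E →* A :=
    { toFun := fun e => ⟨(e : G) * d2 * (e : G)⁻¹ * d2⁻¹, hψ e e.2⟩
      map_one' := Subtype.ext (by simp)
      map_mul' := fun e e' => Subtype.ext (by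
        push_cast
        have h := mem_center_iff.1 (hAc (hψ e' e'.2)) (e : G)
        calc (e : G) * e' * d2 * ((e : G) * e')⁻¹ * d2⁻¹
            = (e : G) * ((e' : G) * d2 * (e' : G)⁻¹ * d2⁻¹) * d2 * (e : G)⁻¹ * d2⁻¹ := by group
          _ = ((e' : G) * d2 * (e' : G)⁻¹ * d2⁻¹) * ((e : G) * d2 * (e : G)⁻¹ * d2⁻¹) := by
              rw [h]; group
          _ = _ := (mem_center_iff.1 (hAc (hψ e' e'.2)) _).symm) }
  have hker : p < Nat.card ψ.ker := by
    have h1 := ψ.ker.card_mul_index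
    rw [Subgroup.index_ker] at h1
    have h2 : Nat.card ψ.range ≤ p := (card_le_card_group _).trans hAp
    by_contra hle
    push Not at hle
    have := Nat.mul_le_mul hle h2
    rw [h1, ← pow_two] at this
    omega
  obtain ⟨f, hfE, hfD, hfd2⟩ : ∃ f ∈ E, f ∉ D ∧ f * d2 = d2 * f := by
    by_contra hcon
    push Not at hcon
    have hsub : ψ.ker.map E.subtype ≤ E ⊓ D := by
      rintro _ ⟨e, he, rfl⟩
      refine ⟨e.2, by_contra fun heD => hcon e e.2 heD ?_⟩
      have h := congrArg Subtype.val (MonoidHom.mem_ker.1 he)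
      calc (e : G) * d2 = ((e : G) * d2 * (e : G)⁻¹ * d2⁻¹) * (d2 * e) := by group
        _ = d2 * e := by rw [show (e : G) * d2 * (e : G)⁻¹ * d2⁻¹ = 1 from h, one_mul]
    have := card_le_of_le hsub
    rw [card_map_of_injective E.subtype_injective] at this
    omega
  have hfp : f ^ p = 1 := hE.2 f hfE
  have hn3 : 3 ≤ n := by
    by_contra hn3
    have hn' : n - 2 = 0 := by omega
    apply hfD
    rw [← hCD, mem_centralizer_iff]
    intro x hx
    exact (hcomp x hx f (by rw [hd2, hn', pow_zero, pow_one] at hfd2; exact hfd2)).symm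
  -- the action of `f` on `d`
  obtain ⟨u, hu⟩ := hgen _ (hDn.conj_mem d hdD f)
  have hud2 : (u : ℤ) ≡ 1 [ZMOD (p : ℤ) ^ 2] := by
    have h1 : d2 ^ u = d2 ^ 1 := by
      calc d2 ^ u = (d ^ u) ^ p ^ (n - 2) := by rw [hd2, ← pow_mul, ← pow_mul, mul_comm]
        _ = f * d2 * f⁻¹ := by rw [hu, conj_pow]
        _ = d2 ^ 1 := by rw [hfd2, mul_inv_cancel_right, pow_one]
    rw [pow_eq_pow_iff_modEq, hd2o] at h1
    exact_mod_cast (Int.natCast_modEq_iff.2 h1)
  have hiter : ∀ i : ℕ, f ^ i * d * (f ^ i)⁻¹ = d ^ u ^ i := by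
    intro i
    induction i with
    | zero => simp
    | succ i ih =>
      calc f ^ (i + 1) * d * (f ^ (i + 1))⁻¹ = f * (f ^ i * d * (f ^ i)⁻¹) * f⁻¹ := by
            rw [pow_succ']; group
        _ = (f * d * f⁻¹) ^ u ^ i := by rw [ih, conj_pow]
        _ = d ^ u ^ (i + 1) := by rw [← hu, ← pow_mul, pow_succ']
  have hc : (d ^ u * d⁻¹) ^ p = 1 := by
    have h2 : d ^ u ^ p = d ^ 1 := by rw [← hiter p, hfp]; simp
    rw [pow_eq_pow_iff_modEq, hn] at h2
    have h3 : ((p : ℤ) ^ n) ∣ (u : ℤ) ^ p - 1 := by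
      have h5 := Int.natCast_modEq_iff.2 h2
      push_cast at h5
      exact h5.symm.dvd
    have h4 : ((p : ℤ) ^ n) ∣ ((u : ℤ) - 1) * p := by
      have hS : (∑ i ∈ Finset.range p, (u : ℤ) ^ i) ≡ (p : ℤ) [ZMOD (p : ℤ) ^ 2] := by
        have h6 : ∀ i ∈ Finset.range p, (u : ℤ) ^ i ≡ 1 [ZMOD (p : ℤ) ^ 2] := fun i _ => by
          simpa using hud2.pow i
        have h7 : ∀ s : Finset ℕ, (∀ i ∈ s, (u : ℤ) ^ i ≡ 1 [ZMOD (p : ℤ) ^ 2]) →
            (∑ i ∈ s, (u : ℤ) ^ i) ≡ (s.card : ℤ) [ZMOD (p : ℤ) ^ 2] := by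
          intro s
          induction s using Finset.induction_on with
          | empty => simp
          | @insert i s hi ih =>
            intro h
            rw [Finset.sum_insert hi, Finset.card_insert_of_notMem hi]
            push_cast
            rw [add_comm (s.card : ℤ) 1]
            exact (h i (Finset.mem_insert_self _ _)).add
              (ih fun j hj => h j (Finset.mem_insert_of_mem hj))
        simpa using h7 _ h6
      obtain ⟨k, hk⟩ := hS.symm.dvd
      have hS' : (∑ i ∈ Finset.range p, (u : ℤ) ^ i) = p * (1 + p * k) := by linarith [pow_two (p : ℤ)]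
      have hfac : (u : ℤ) ^ p - 1 = ((u : ℤ) - 1) * p * (1 + p * k) := by
        rw [mul_assoc, ← hS', mul_comm]
        exact (geom_sum_mul (u : ℤ) p).symm
      rw [hfac] at h3
      refine Int.dvd_of_dvd_mul_left_of_gcd_one h3 ?_
      rw [← Int.isCoprime_iff_gcd_eq_one]
      exact (show IsCoprime (p : ℤ) (1 + p * k) from ⟨-k, 1, by ring⟩).pow_left
    have h8 : d ^ (((u : ℤ) - 1) * p) = 1 :=
      orderOf_dvd_iff_zpow_eq_one.1 (by rw [hn]; push_cast; exact h4)
    rw [zpow_mul, zpow_natCast, zpow_sub, zpow_natCast, zpow_one] at h8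
    exact h8
  -- so `f` centralizes `d` modulo `A`
  have hcA : ∀ x ∈ D, f * x * f⁻¹ * x⁻¹ ∈ A := by
    intro x hx
    obtain ⟨j, rfl⟩ := hgen x hx
    have hcd : d ^ u * d⁻¹ ∈ A := hroots _ (mul_mem (pow_mem hdD _) (inv_mem hdD)) hc
    rw [← conj_pow, ← hu, ← inv_pow]
    rw [← (show Commute (d ^ u) d⁻¹ from (Commute.self_pow d u).symm.inv_right).mul_pow]
    exact pow_mem hcd j
  -- `A ⟨f⟩` is normal
  have hfA : f ∉ A := fun h => hfD (hAD h)
  set U := A ⊔ zpowers f with hU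
  have hUn : U.Normal := by
    refine ⟨fun x hx g => ?_⟩
    have hh : g * f * g⁻¹ * f⁻¹ ∈ A := by
      have hD' : g * f * g⁻¹ * f⁻¹ ∈ D := by
        rw [← hCD]
        refine mem_centralizer_iff.2 fun x hx => ?_
        -- conjugations by `g` and `f` act on the cyclic group `D` by powers, hence commute
        obtain ⟨a', ha'⟩ := hgen _ (hDn.conj_mem d hdD g)
        have hpw : ∀ (b : G) (k : ℕ), b * d * b⁻¹ = d ^ k → ∀ y ∈ D, b * y * b⁻¹ = y ^ k := by
          intro b k hb y hy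
          obtain ⟨j, rfl⟩ := hgen y hy
          rw [← conj_pow, hb, ← pow_mul, ← pow_mul, mul_comm]
        have e1 : ∀ y ∈ D, g * f * y * (g * f)⁻¹ = f * g * y * (f * g)⁻¹ := by
          intro y hy
          calc g * f * y * (g * f)⁻¹ = g * (f * y * f⁻¹) * g⁻¹ := by group
            _ = (y ^ u) ^ a' := by rw [hpw f u hu.symm y hy, hpw g a' ha'.symm _ (pow_mem hy u)]
            _ = (y ^ a') ^ u := by rw [← pow_mul, ← pow_mul, mul_comm]
            _ = f * (g * y * g⁻¹) * f⁻¹ := by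
              rw [hpw g a' ha'.symm y hy, hpw f u hu.symm _ (pow_mem hy a')]
            _ = _ := by group
        obtain ⟨y, hy, rfl⟩ : ∃ y ∈ D, f * g * y * (f * g)⁻¹ = x :=
          ⟨(f * g)⁻¹ * x * (f * g), by simpa using hDn.conj_mem x hx (f * g)⁻¹, by group⟩
        calc f * g * y * (f * g)⁻¹ * (g * f * g⁻¹ * f⁻¹)
            = (g * f * y * (g * f)⁻¹) * (g * f * g⁻¹ * f⁻¹) := by rw [e1 y hy]
          _ = g * f * g⁻¹ * f⁻¹ * (f * g * y * (f * g)⁻¹) := by group
      set h := g * f * g⁻¹ * f⁻¹ with hh_def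
      have hz : f * h * f⁻¹ * h⁻¹ ∈ A := hcA h hD'
      have hhf : (h * f) ^ p = 1 := by
        rw [hh_def, inv_mul_cancel_right, conj_pow, hfp, mul_one, mul_inv_cancel]
      -- expand the `p`-th power
      have hexp := PGroupNormalSq.pow_mul_central (a := h) (g := f) (c := f * h * f⁻¹ * h⁻¹) (by group)
        (mem_center_iff.1 (hAc hz) h).symm (mem_center_iff.1 (hAc hz) f).symm p
      rw [hhf, hfp, mul_one] at hexp
      have hhp : h ^ p ∈ A := by
        have : h ^ p = ((f * h * f⁻¹ * h⁻¹) ^ p.choose 2)⁻¹ := eq_inv_of_mul_eq_one_right hexp.symm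
        rw [this]
        exact inv_mem (pow_mem hz _)
      obtain ⟨j, hj⟩ := hgen h hD'
      have hfh : f * h = h * f := by
        have h5 : (h ^ p) ^ p = 1 := hA.2 _ hhp
        rw [← hj, ← pow_mul, ← pow_mul, ← orderOf_dvd_iff_pow_eq_one, hn] at h5
        have h6 : p ^ (n - 2) ∣ j := by
          have : p ^ (n - 2) * (p * p) ∣ j * (p * p) := by
            rw [← mul_assoc j, show p ^ (n - 2) * (p * p) = p ^ n by
              rw [← pow_two, ← pow_add]; congr 1; omega]
            rwa [← mul_assoc] at h5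
          exact Nat.dvd_of_mul_dvd_mul_right (mul_pos hp.out.pos hp.out.pos) this
        obtain ⟨i, rfl⟩ := h6
        rw [← hj, pow_mul, ← hd2]
        exact (Commute.pow_right (hfd2 : Commute f d2) i).eq
      refine hroots h hD' ?_
      rwa [(show Commute h f from hfh.symm).mul_pow, hfp, mul_one] at hhf
    have : U.map (MulAut.conj g).toMonoidHom ≤ U := by
      rw [hU, Subgroup.map_sup, MonoidHom.map_zpowers]
      refine sup_le ?_ (zpowers_le.2 ?_)
      · rintro _ ⟨y, hy, rfl⟩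
        exact mem_sup_left (hAn.conj_mem y hy g)
      · have := mul_mem (mem_sup_left (T := zpowers f) hh) (mem_sup_right (S := A) (mem_zpowers f))
        simpa [hU] using this
    exact this ⟨x, hx, rfl⟩
  have hUel : IsElementaryAbelian p U := by
    refine ElemAbelian.sup hA (ElemAbelian.zpowers hfp) ?_
    exact fun y hy => mem_centralizer_iff.2 fun z _ => mem_center_iff.1 (hAc hy) z
  obtain ⟨k, hk⟩ := IsPGroup.iff_card.1 (hG.to_subgroup U)
  have hk2 : 2 ≤ k := by
    by_contra hk2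
    have hle : Nat.card U ≤ p := hk ▸ (Nat.pow_le_pow_right hp.out.pos (by omega : k ≤ 1)).trans
      (pow_one p).le
    -- `A` is nontrivial, so `U` would equal `A`
    have hA1 : p ≤ Nat.card A := by
      obtain ⟨z, hzc, hz1⟩ : ∃ z ∈ D, z ≠ 1 ∧ True := ⟨d, hdD, fun h => by
        rw [h, orderOf_one] at hn
        exact absurd hn (Nat.ne_of_lt (Nat.one_lt_pow (by omega) hp.out.one_lt)), trivial⟩
      have hlast : d ^ p ^ (n - 1) ∈ A := hroots _ (pow_mem hdD _) (by
        rw [← pow_mul, ← pow_succ, show n - 1 + 1 = n by omega, ← hn, pow_orderOf_eq_one])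
      have ho : orderOf (d ^ p ^ (n - 1)) = p := by
        rw [orderOf_pow_of_dvd (pow_ne_zero _ hp.out.ne_zero)
          (hn ▸ pow_dvd_pow p (Nat.sub_le n 1)), hn]
        exact Nat.div_eq_of_eq_mul_left (pow_pos hp.out.pos _) (by
          rw [← pow_succ']; congr 1; omega)
      rw [← ho]
      exact Nat.le_of_dvd Nat.card_pos (A.orderOf_dvd_natCard hlast)
    exact hfA ((eq_of_le_of_card_ge (le_sup_left : A ≤ U) (hle.trans hA1)).ge
      (mem_sup_right (mem_zpowers f)))
  obtain ⟨K, hKn, hKU, hK⟩ := PLemmas.exists_normal_le_card_eq hG U hk hk2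
  exact ⟨K, hKn, ElemAbelian.mono hUel hKU, hK⟩

end Cfsg.Agent.Lib.NormalElem
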