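import Mathlib
import Cfsg.Agent.Lib.LinGroup.SLTwoTwoSylow
import Cfsg.Agent.Lib.OddStability.Pair
import Cfsg.Agent.Lib.PGroup.SL2Solvable

/-!
Two unipotent elements of `SL₂(q)`, `q` odd, generating a group with abelian Sylow `2`-subgroups,
generate a `p`-group.
-/

set_option autoImplicit false

namespace Cfsg.Agent.Lib.SL2OddStable

open Cfsg.Agent.Lib.TwoQuadratic (IsUnipotentTwo)

local notation "SLK" K:max => Matrix.SpecialLinearGroup (Fin 2) K

variable {K : Type*} [Field K] [Fintype K] {p : ℕ} [Fact p.Prime] [CharP K p]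

theorem isCyclic_of_comm_two_group (hp : p ≠ 2) (T : Subgroup (SLK K)) (hT : IsPGroup 2 T)
    [IsMulCommutative T] : IsCyclic T := by
  by_cases h : T ≤ Subgroup.center (SLK K)
  · have hle : T ≤ Subgroup.zpowers (-1 : SLK K) := fun x hx => by
      rcases (SL2.mem_center_iff_eq x).1 (h hx) with e | e
      · rw [e]; exact one_mem _
      · rw [e]; exact Subgroup.mem_zpowers _
    exact isCyclic_of_injective _ (Subgroup.inclusion_injective hle)
  · obtain ⟨g, hgT, hgc⟩ := SetLike.not_le_iff_exists.1 h
    obtain ⟨k, hk⟩ := IsPGroup.iff_orderOf.1 hT ⟨g, hgT⟩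
    rw [Subgroup.orderOf_mk] at hk
    have hco : Nat.Coprime (orderOf g) p := by
      rw [hk]
      exact Nat.Coprime.pow_left _ ((Nat.coprime_primes Nat.prime_two Fact.out).2 hp.symm)
    have := LinGroup.isCyclic_centralizer_of_coprime p hgc hco
    have hle : T ≤ Subgroup.centralizer ({g} : Set (SLK K)) := fun y hy => by
      rw [Subgroup.mem_centralizer_singleton_iff]
      exact congrArg Subtype.val (mul_comm' (⟨y, hy⟩ : T) ⟨g, hgT⟩)
    exact isCyclic_of_injective _ (Subgroup.inclusion_injective hle)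

/-- The action on column vectors. -/
noncomputable def vecAct : (SLK K) →* AddMonoid.End (Fin 2 → K) where
  toFun g := (Matrix.mulVecLin (g : Matrix (Fin 2) (Fin 2) K)).toAddMonoidHom
  map_one' := AddMonoidHom.ext fun v => Matrix.one_mulVec v
  map_mul' x y := AddMonoidHom.ext fun v => (Matrix.mulVec_mulVec v (x : Matrix (Fin 2) (Fin 2) K) y).symm

theorem vecAct_injective : Function.Injective (vecAct (K := K)) := fun x y h =>
  Subtype.ext (Matrix.toLin'.injective (LinearMap.ext fun v => DFunLike.congr_fun h v))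

theorem isQuadratic_vecAct {S : Type*} [Group S] (f : S →* SLK K) {s : S}
    (hs : IsUnipotentTwo (f s : Matrix (Fin 2) (Fin 2) K)) :
    OddStability.IsQuadratic ((vecAct (K := K)).comp f) s := by
  intro v
  rw [← sub_eq_zero]
  have h := congrArg (fun A : Matrix (Fin 2) (Fin 2) K => A.mulVec v) (hs : _ = (0 : Matrix _ _ K))
  simp only [Matrix.zero_mulVec, ← Matrix.mulVec_mulVec, Matrix.sub_mulVec, Matrix.one_mulVec] at h
  exact h

theorem isPGroup_of_isMulCommutative_sylow_two (hp : p ≠ 2) {u v : SLK K}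
    (hu : IsUnipotentTwo (u : Matrix (Fin 2) (Fin 2) K))
    (hv : IsUnipotentTwo (v : Matrix (Fin 2) (Fin 2) K))
    {L : Subgroup (SLK K)} (hL : L = Subgroup.closure {u, v})
    (hT : ∀ T : Sylow 2 L, IsMulCommutative T) : IsPGroup p L := by
  have hpp : p.Prime := Fact.out
  set u' : L := ⟨u, hL ▸ Subgroup.subset_closure (Set.mem_insert u _)⟩
  set v' : L := ⟨v, hL ▸ Subgroup.subset_closure (Set.mem_insert_of_mem u rfl)⟩
  have hgen : Subgroup.closure ({u', v'} : Set L) = ⊤ := by
    apply Subgroup.map_injective (Subgroup.subtype_injective L)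
    rw [MonoidHom.map_closure, ← MonoidHom.range_eq_map, Subgroup.range_subtype, Set.image_pair]
    exact hL.symm
  have hodd : Odd (Nat.card L) := by
    rw [← Nat.not_even_iff_odd, even_iff_two_dvd]
    intro h2
    obtain ⟨T⟩ : Nonempty (Sylow 2 L) := inferInstance
    set T' := (T : Subgroup L).map L.subtype
    have e : (T : Subgroup L) ≃* T' := (T : Subgroup L).equivMapOfInjective _ L.subtype_injective
    have : IsMulCommutative (T : Subgroup L) := hT T
    have : IsMulCommutative T' := ⟨⟨fun a b => by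
      apply e.symm.injective
      rw [map_mul, map_mul, mul_comm']⟩⟩
    have := isCyclic_of_comm_two_group hp T' (T.2.map _)
    have hcyc : IsCyclic (T : Subgroup L) := isCyclic_of_injective e.toMonoidHom e.injective
    have hmin : (Nat.card L).minFac = 2 := (Nat.minFac_eq_two_iff _).2 h2
    have hcompl := IsCyclic.isComplement' (P := T) hmin hcyc
    set N := (MonoidHom.transferSylow T (hcyc.normalizer_le_centralizer hmin)).ker
    obtain ⟨k, hk⟩ := IsPGroup.iff_card.1 T.2
    have hNu : ∀ z : L, z ^ p = 1 → z ∈ N := by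
      intro z hz
      rw [← QuotientGroup.eq_one_iff, ← orderOf_eq_one_iff]
      refine Nat.eq_one_of_dvd_coprimes
        (Nat.Coprime.pow_left k ((Nat.coprime_primes Nat.prime_two hpp).2 hp.symm)) ?_ ?_
      · have := orderOf_dvd_natCard (z : L ⧸ N)
        rwa [← Subgroup.index_eq_card, hcompl.symm.index_eq_card, hk] at this
      · exact orderOf_dvd_of_pow_eq_one (by rw [← QuotientGroup.mk_pow, hz, QuotientGroup.mk_one])
    have hN : N = ⊤ := by
      rw [eq_top_iff, ← hgen, Subgroup.closure_le]
      rintro z (rfl | hz)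
      · exact hNu _ (Subtype.ext (SL2Solvable.pow_char_eq_one hu))
      · rw [Set.mem_singleton_iff.1 hz]
        exact hNu _ (Subtype.ext (SL2Solvable.pow_char_eq_one hv))
    have h1 := hcompl.symm.index_eq_card
    rw [hN, Subgroup.index_top] at h1
    have h3 := T.dvd_card_of_dvd_card h2
    rw [← h1] at h3
    exact Nat.prime_two.not_dvd_one h3
  intro z
  obtain ⟨k, hk⟩ := OddStability.exists_pow_eq_one_of_pair hp hodd
    (V := Fin 2 → K) (fun w => funext fun i => by
      rw [Pi.smul_apply, nsmul_eq_mul, CharP.cast_eq_zero, zero_mul, Pi.zero_apply])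
    ((vecAct (K := K)).comp L.subtype) u' v' hgen
    (isQuadratic_vecAct L.subtype hu) (isQuadratic_vecAct L.subtype hv) z
  exact ⟨k, L.subtype_injective (vecAct_injective (hk.trans (map_one _).symm))⟩

end Cfsg.Agent.Lib.SL2OddStable
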