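import Mathlib
import Cfsg.Agent.Lib.PGroup.SL2OddStable
import Cfsg.Agent.Lib.PGroup.QuadraticStable

/-!
Groups with abelian Sylow `2`-subgroups and quadratic action for odd `p`.
-/

set_option autoImplicit false

namespace Cfsg.Agent.Lib.AbelianSylowTwo

universe u v

variable {H : Type u} [Group H]

/-- All Sylow `2`-subgroups are abelian. -/
def AbelianTwo (H : Type u) [Group H] : Prop := ∀ T : Sylow 2 H, IsMulCommutative T

theorem isMulCommutative_of_equiv {A : Type*} {B : Type*} [Group A] [Group B] (e : A ≃* B)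
    [IsMulCommutative A] : IsMulCommutative B :=
  ⟨⟨fun a b => e.symm.injective (by rw [map_mul, map_mul, mul_comm'])⟩⟩

theorem abelianTwo_of_one [Finite H] (T : Sylow 2 H) (h : IsMulCommutative T) : AbelianTwo H :=
  fun T' => isMulCommutative_of_equiv (Sylow.equiv T T')

theorem abelianTwo_of_surjective [Finite H] {H' : Type*} [Group H'] (f : H →* H')
    (hf : Function.Surjective f) (h : AbelianTwo H) : AbelianTwo H' := by
  intro T
  obtain ⟨S, rfl⟩ := Sylow.mapSurjective_surjective hf 2 T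
  refine ⟨⟨?_⟩⟩
  rintro ⟨_, a, ha, rfl⟩ ⟨_, b, hb, rfl⟩
  apply Subtype.ext
  change f a * f b = f b * f a
  rw [← map_mul, ← map_mul]
  have := h S
  exact congrArg f (congrArg Subtype.val (mul_comm' (⟨a, ha⟩ : (S : Subgroup H)) ⟨b, hb⟩))

theorem abelianTwo_subgroup [Finite H] (K : Subgroup H) (h : AbelianTwo H) : AbelianTwo K := by
  intro T
  obtain ⟨S, hS⟩ := (T.2.map K.subtype).exists_le_sylow
  have := h S
  exact ⟨⟨fun a b => Subtype.ext (Subtype.ext
    (congrArg (fun z : (S : Subgroup H) => (z : H)) (mul_comm' (⟨((a : K) : H), hS (Subgroup.mem_map_of_mem _ a.2)⟩ :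
      (S : Subgroup H)) ⟨((b : K) : H), hS (Subgroup.mem_map_of_mem _ b.2)⟩)))⟩⟩

/-- In a group with abelian Sylow `2`-subgroups a quadratic element lies in `O_p`, `p` odd. -/
theorem mem_pCore [Finite H] {p : ℕ} [Fact p.Prime] (hp : p ≠ 2) (hab : AbelianTwo H)
    {M : Type v} [AddCommGroup M] [Finite M] (hM : ∀ v : M, p • v = 0)
    (ρ : H →* AddMonoid.End M) (hinj : ∀ h, (∀ v, ρ h v = v) → h = 1) {a : H}
    (ha : TwoQuadratic.IsUnipotentTwo (ρ a)) : a ∈ Cfsg.pCore p H := by
  by_contra hna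
  obtain ⟨g, hg⟩ := QuadraticStable.exists_conj_not_isPGroup hna
  obtain ⟨K, i1, i2, i3, φ, a', b', hr, hnp, hφa, hφb⟩ :=
    QuadraticStable.exists_sl2_of_conj hM ρ hinj ha hg
  exact hnp (SL2OddStable.isPGroup_of_isMulCommutative_sylow_two hp hφa hφb hr
    (abelianTwo_of_surjective φ.rangeRestrict φ.rangeRestrict_surjective (abelianTwo_subgroup _ hab)))

end Cfsg.Agent.Lib.AbelianSylowTwo
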