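import Mathlib
import Cfsg.Prelude.Def_PLocal
import Cfsg.Agent.Lib.PGroup.ElemAbelian
import Cfsg.Agent.Lib.PGroup.Omega
import Cfsg.Agent.Lib.PGroup.Frattini
import Cfsg.Agent.Lib.PGroup.QuadraticPair
import Cfsg.Agent.Lib.PSolvable.PSolv

/-!
`p`-stability in the action sense follows from the stability of faithful linear sections.
-/

set_option autoImplicit false

namespace Cfsg.Agent.Lib.ActionStable

open Subgroup
open scoped commutatorElement IsMulCommutative

universe u

variable {p : ℕ}

/-- Every quadratic element of a faithful representation on exponent `p` lies in `O_p`. -/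
def StableReps (p : ℕ) (H : Type u) [Group H] : Prop :=
  ∀ (M : Type u) [AddCommGroup M] [Finite M], (∀ v : M, p • v = 0) →
    ∀ (ρ : H →* AddMonoid.End M), (∀ h, (∀ v, ρ h v = v) → h = 1) →
      ∀ a : H, TwoQuadratic.IsUnipotentTwo (ρ a) → a ∈ Cfsg.pCore p H

variable {G : Type u} [Group G]

/-- Conjugation action of `G ⧸ C_G(V)` on `V`, additively. -/
noncomputable def actQuot (V : Subgroup G) [hV : V.Normal] [IsMulCommutative V] :
    G ⧸ centralizer (V : Set G) →* AddMonoid.End (Additive V) :=
  QuotientGroup.lift _ ((QuadraticPair.actAdd V ⊤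
      (by rw [normalizer_eq_top])).comp (topEquiv (G := G)).symm.toMonoidHom) fun c hc => by
    refine AddMonoidHom.ext fun v => ?_
    apply Additive.toMul.injective
    apply Subtype.ext
    refine (QuadraticPair.actAdd_apply V ⊤ _ _ v).trans ?_
    change c * ((Additive.toMul v : V) : G) * c⁻¹ = ((Additive.toMul v : V) : G)
    rw [← mem_centralizer_iff.1 hc _ (Additive.toMul v : V).2, mul_inv_cancel_right]

theorem isPStableOn_of_stableReps [Finite G] (V : Subgroup G) [V.Normal]
    (hV : IsElementaryAbelian p V) (h : StableReps p (G ⧸ centralizer (V : Set G))) :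
    IsPStableOn p V := by
  intro a ha
  have : IsMulCommutative V := hV.1
  refine h (Additive V) (fun v => ?_) (actQuot V) (fun x hx => ?_) _ ?_
  · apply Additive.toMul.injective
    apply Subtype.ext
    rw [toMul_nsmul, SubgroupClass.coe_pow, toMul_zero, OneMemClass.coe_one]
    exact hV.2 _ (Additive.toMul v : V).2
  · obtain ⟨g, rfl⟩ := QuotientGroup.mk'_surjective _ x
    rw [QuotientGroup.mk'_apply, QuotientGroup.eq_one_iff, mem_centralizer_iff]
    intro v hv
    have h4 := congrArg (fun t => ((Additive.toMul t : V) : G)) (hx (Additive.ofMul ⟨v, hv⟩))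
    change g * v * g⁻¹ = v at h4
    exact (mul_inv_eq_iff_eq_mul.1 h4).symm
  · exact QuadraticPair.isUnipotentTwo_actAdd V ⊤ _ ⟨a, mem_top a⟩ ha

theorem isPStableOnSection_of_isPStableOn [Finite G] [Fact p.Prime] (K N : Subgroup G) [K.Normal]
    [N.Normal] [(K.map (QuotientGroup.mk' N)).Normal]
    (h : IsPStableOn p (K.map (QuotientGroup.mk' N))) : IsPStableOnSection p K N := by
  intro a ha
  set π := QuotientGroup.mk' N
  have hq : ⁅⁅K.map π, zpowers (π a)⁆, zpowers (π a)⁆ = ⊥ := by
    rw [← MonoidHom.map_zpowers, ← map_commutator, ← map_commutator, Subgroup.map_eq_bot_iff,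
      QuotientGroup.ker_mk']
    exact ha
  set C := centralizer (((K.map π : Subgroup (G ⧸ N))) : Set (G ⧸ N))
  set f : G →* (G ⧸ N) ⧸ C := (QuotientGroup.mk' C).comp π with hf
  have hfs : Function.Surjective f :=
    (QuotientGroup.mk'_surjective C).comp (QuotientGroup.mk'_surjective N)
  have hker : f.ker = sectionKernel K N := by
    rw [hf, ← MonoidHom.comap_ker, QuotientGroup.ker_mk']
    rfl
  obtain ⟨k, hk⟩ := IsPGroup.iff_card.1 (PSolvable.pCore_isPGroup (p := p) (G := (G ⧸ N) ⧸ C))
  refine ⟨(Cfsg.pCore p _).comap f, inferInstance, hker ▸ f.ker_le_comap _, ⟨k, ?_⟩, h (π a) hq⟩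
  rw [← hker, ← MonoidHom.comap_bot, relIndex_comap, map_comap_eq_self_of_surjective hfs,
    relIndex_bot_left, hk]

theorem isElementaryAbelian_frattiniQuotient [Finite G] [Fact p.Prime] (K : Subgroup G) [K.Normal]
    (hK : IsPGroup p K) [((frattini K).map K.subtype).Normal] :
    IsElementaryAbelian p (K.map (QuotientGroup.mk' ((frattini K).map K.subtype))) := by
  rw [ElemAbelian.iff_comm_pow]
  refine ⟨?_, ?_⟩
  · rintro _ ⟨x, hx, rfl⟩ _ ⟨y, hy, rfl⟩
    rw [← commutatorElement_eq_one_iff_mul_comm, ← map_commutatorElement, QuotientGroup.mk'_apply,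
      QuotientGroup.eq_one_iff]
    refine ⟨⁅(⟨x, hx⟩ : K), ⟨y, hy⟩⁆, PFrattini.commutator_le_frattini hK ?_, rfl⟩
    rw [_root_.commutator_def]
    exact commutator_mem_commutator (mem_top _) (mem_top _)
  · rintro _ ⟨x, hx, rfl⟩
    rw [← map_pow, QuotientGroup.mk'_apply, QuotientGroup.eq_one_iff]
    exact ⟨(⟨x, hx⟩ : K) ^ p, PFrattini.pow_mem_frattini hK _, rfl⟩

/-- A class of groups closed under subgroups and quotients, with stable representations, consists
of groups that are `p`-stable in the action sense. -/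
theorem isActionPStable_of [Finite G] [Fact p.Prime] (Q : ∀ (H : Type u) [Group H], Prop)
    (hsub : ∀ (H : Type u) [Group H] [Finite H] (K : Subgroup H), Q H → Q K)
    (hquot : ∀ (H : Type u) [Group H] [Finite H] (N : Subgroup H) [N.Normal], Q H → Q (H ⧸ N))
    (hstab : ∀ (H : Type u) [Group H] [Finite H], Q H → StableReps p H) (hG : Q G) :
    IsActionPStable p G := by
  refine ⟨fun V _ hV => isPStableOn_of_stableReps V hV (hstab _ (hquot _ _ hG)), ?_,
    fun S V _ hVle => ?_⟩
  · set Φ := (frattini ↥(pCore p G)).map (pCore p G).subtype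
    have : ((pCore p G).map (QuotientGroup.mk' Φ)).Normal :=
      Subgroup.Normal.map inferInstance _ (QuotientGroup.mk'_surjective Φ)
    exact isPStableOnSection_of_isPStableOn _ _ (isPStableOn_of_stableReps _
      (isElementaryAbelian_frattiniQuotient _ PSolvable.pCore_isPGroup)
      (hstab _ (hquot _ _ (hquot _ _ hG))))
  · refine isPStableOn_of_stableReps V ?_ (hstab _ (hquot _ _ (hsub _ _ hG)))
    have hW : IsElementaryAbelian p (omegaCenterThompson p ↥(S : Subgroup G)) :=
      Omega.inter_centralizer_isElementaryAbelian _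
    rw [← ElemAbelian.map_iff (Subgroup.subtype_injective _)]
    exact ElemAbelian.mono (ElemAbelian.map hW _) hVle

end Cfsg.Agent.Lib.ActionStable
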