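import Mathlib
import Cfsg.Prelude.Def_PLocal
import Cfsg.Agent.Lib.PGroup.Omega
import Cfsg.Agent.Lib.PGroup.Thompson
import Cfsg.Agent.Lib.PGroup.SylowCentre

/-!
`p`-subgroups in the quotient by a normal subgroup `N` of order prime to `p`:
normalisers and centralisers lift, `J(P)` and `Ω₁(Z(P))` map to those of the image.
-/

set_option autoImplicit false

namespace Cfsg.Agent.Lib.CoprimeImage

open Subgroup
open scoped commutatorElement

variable {G : Type*} [Group G] {p : ℕ}

theorem inf_eq_bot [Finite G] [Fact p.Prime] {P N : Subgroup G} (hP : IsPGroup p P)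
    (hN : (Nat.card N).Coprime p) : P ⊓ N = ⊥ :=
  PSolvable.inf_eq_bot_of_isPGroup_of_coprime hP hN

theorem subtype_comp_injective [Finite G] [Fact p.Prime] {P N : Subgroup G} [N.Normal]
    (hP : IsPGroup p P) (hN : (Nat.card N).Coprime p) :
    Function.Injective ((QuotientGroup.mk' N).comp P.subtype) := by
  rw [← MonoidHom.ker_eq_bot_iff, _root_.eq_bot_iff]
  intro x hx
  have : (x : G) ∈ P ⊓ N := ⟨x.2, (QuotientGroup.eq_one_iff _).1 hx⟩
  rw [inf_eq_bot hP hN, mem_bot] at this
  exact mem_bot.2 (Subtype.ext this)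

/-- An element whose image normalises the image of `P` is in `N · N_G(P)`. -/
theorem exists_mul_mem_normalizer [Finite G] [Fact p.Prime] {P N : Subgroup G} [N.Normal]
    (hP : IsPGroup p P) (hN : (Nat.card N).Coprime p) {g : G}
    (hg : (g : G ⧸ N) ∈ normalizer ((P.map (QuotientGroup.mk' N) : Subgroup (G ⧸ N)) : Set (G ⧸ N))) :
    ∃ n ∈ N, n * g ∈ normalizer (P : Set G) := by
  set M := N ⊔ P with hM
  set P' := P.map (MulAut.conj g).toMonoidHom with hP'
  have hP'M : P' ≤ M := by
    rintro _ ⟨x, hx, rfl⟩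
    have h1 : (QuotientGroup.mk' N) (g * x * g⁻¹) ∈ P.map (QuotientGroup.mk' N) := by
      rw [map_mul, map_mul, map_inv]
      exact (mem_normalizer_iff.1 hg _).1 (mem_map_of_mem _ hx)
    have h2 : g * x * g⁻¹ ∈ (P.map (QuotientGroup.mk' N)).comap (QuotientGroup.mk' N) := h1
    rwa [QuotientGroup.comap_map_mk' N P] at h2
  have hPM : P ≤ M := le_sup_right
  have hcard : Nat.card P' = Nat.card P := card_map_of_injective (MulAut.conj g).injective
  have hidx : ∀ Q : Subgroup G, Q ≤ M → Nat.card Q = Nat.card P →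
      ¬ p ∣ (Q.subgroupOf M).index := by
    intro Q hQ hQc hdvd
    have h1 : Nat.card M ∣ Nat.card N * Nat.card P := by
      have h := PSolvable.card_mul_relIndex (show N ≤ M from le_sup_left)
      rw [← h, hM, relIndex_sup_left, ← inf_relIndex_right]
      refine Nat.mul_dvd_mul_left _ ?_
      exact relIndex_dvd_card _ _
    have h2 : Nat.card Q * (Q.subgroupOf M).index = Nat.card M := PSolvable.card_mul_relIndex hQ
    rw [← h2, hQc, mul_comm (Nat.card N)] at h1
    have h3 := (Nat.dvd_of_mul_dvd_mul_left Nat.card_pos h1)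
    exact (Fact.out : p.Prime).coprime_iff_not_dvd.1 hN.symm (hdvd.trans h3)
  let S₁ : Sylow p M := (hP.comap_subtype).toSylow (hidx P hPM rfl)
  let S₂ : Sylow p M :=
    ((hP.map (MulAut.conj g).toMonoidHom).comap_subtype).toSylow (hidx P' hP'M hcard)
  obtain ⟨⟨m, hm⟩, hmS⟩ := MulAction.exists_smul_eq M S₂ S₁
  have hmP : P'.map (MulAut.conj m).toMonoidHom = P := by
    have h := congrArg (fun S : Sylow p M => (S : Subgroup M).map M.subtype) hmS
    simp only [Sylow.coe_subgroup_smul, Subgroup.pointwise_smul_def] at h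
    have e1 : (S₁ : Subgroup M).map M.subtype = P := by
      change (P.subgroupOf M).map M.subtype = P
      rw [subgroupOf_map_subtype, inf_of_le_left hPM]
    have e2 : (S₂ : Subgroup M).map M.subtype = P' := by
      change (P'.subgroupOf M).map M.subtype = P'
      rw [subgroupOf_map_subtype, inf_of_le_left hP'M]
    rw [e1] at h
    conv_rhs => rw [← h]
    conv_lhs => rw [← e2]
    ext y
    simp only [mem_map]
    constructor
    · rintro ⟨_, ⟨w, hw, rfl⟩, rfl⟩
      exact ⟨_, ⟨w, hw, rfl⟩, rfl⟩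
    · rintro ⟨_, ⟨w, hw, rfl⟩, rfl⟩
      exact ⟨_, ⟨w, hw, rfl⟩, rfl⟩
  rw [hM, sup_comm] at hm
  obtain ⟨x, hx, k, hk, rfl⟩ := mem_sup_of_normal_right.1 hm
  refine ⟨k, hk, ?_⟩
  have hxP : P.map (MulAut.conj x⁻¹).toMonoidHom = P := by
    have := (le_normalizer : P ≤ normalizer (P : Set G)) (inv_mem hx)
    exact mem_normalizer_iff_map_conj_eq.1 this
  rw [mem_normalizer_iff_map_conj_eq]
  have := congrArg (Subgroup.map (MulAut.conj x⁻¹).toMonoidHom) hmP
  rw [hxP, hP', Subgroup.map_map, Subgroup.map_map] at this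
  refine Eq.trans ?_ this
  congr 1
  ext y
  simp [mul_assoc]

theorem exists_mul_mem_centralizer [Finite G] [Fact p.Prime] {P N : Subgroup G} [N.Normal]
    (hP : IsPGroup p P) (hN : (Nat.card N).Coprime p) {g : G}
    (hg : (g : G ⧸ N) ∈ centralizer ((P.map (QuotientGroup.mk' N) : Subgroup (G ⧸ N)) : Set (G ⧸ N))) :
    ∃ n ∈ N, n * g ∈ centralizer (P : Set G) := by
  obtain ⟨n, hn, hng⟩ := exists_mul_mem_normalizer hP hN (centralizer_le_normalizer _ hg)
  refine ⟨n, hn, mem_centralizer_iff.2 fun z hz => ?_⟩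
  have h1 : ⁅n * g, z⁆ ∈ P ⊓ N := by
    refine mem_inf.2 ⟨?_, ?_⟩
    · rw [commutatorElement_def]
      exact mul_mem ((mem_normalizer_iff.1 hng z).1 hz) (inv_mem hz)
    · rw [← QuotientGroup.eq_one_iff, ← QuotientGroup.mk'_apply, map_commutatorElement,
        commutatorElement_eq_one_iff_mul_comm, map_mul,
        show (QuotientGroup.mk' N) n = 1 from (QuotientGroup.eq_one_iff n).2 hn, one_mul]
      exact (mem_centralizer_iff.1 hg _ (mem_map_of_mem _ hz)).symm
  rw [inf_eq_bot hP hN, mem_bot, commutatorElement_eq_one_iff_mul_comm] at h1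
  exact h1.symm

theorem map_thompsonSubgroupOf [Finite G] [Fact p.Prime] {P N : Subgroup G} [N.Normal]
    (hP : IsPGroup p P) (hN : (Nat.card N).Coprime p) :
    (thompsonSubgroupOf p P).map (QuotientGroup.mk' N) =
      thompsonSubgroupOf p (P.map (QuotientGroup.mk' N)) := by
  have h := Thompson.thompsonSubgroupOf_map (p := p) (subtype_comp_injective hP hN) (⊤ : Subgroup P)
  have hP' : (⊤ : Subgroup P).map ((QuotientGroup.mk' N).comp P.subtype) =
      P.map (QuotientGroup.mk' N) := by
    rw [← Subgroup.map_map, ← MonoidHom.range_eq_map, range_subtype]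
  rw [← hP', h, Thompson.thompsonSubgroupOf_top, ← Subgroup.map_map]
  rfl

theorem map_omegaCentre [Finite G] [Fact p.Prime] {P N : Subgroup G} [N.Normal]
    (hP : IsPGroup p P) (hN : (Nat.card N).Coprime p) :
    (omegaOne p (P ⊓ centralizer (P : Set G))).map (QuotientGroup.mk' N) =
      omegaOne p (P.map (QuotientGroup.mk' N) ⊓
        centralizer ((P.map (QuotientGroup.mk' N) : Subgroup (G ⧸ N)) : Set (G ⧸ N))) := by
  have h := SylowCentre.map_omegaCentre (p := p) (subtype_comp_injective hP hN) (⊤ : Subgroup P)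
  have h0 := SylowCentre.map_omegaCentre (p := p) (subtype_injective P) (⊤ : Subgroup P)
  have hP' : (⊤ : Subgroup P).map ((QuotientGroup.mk' N).comp P.subtype) =
      P.map (QuotientGroup.mk' N) := by
    rw [← Subgroup.map_map, ← MonoidHom.range_eq_map, range_subtype]
  rw [← MonoidHom.range_eq_map, range_subtype] at h0
  rw [← hP', ← h, ← h0, Subgroup.map_map]

end Cfsg.Agent.Lib.CoprimeImage
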