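import Mathlib
import Cfsg.Agent.Lib.PGroup.NormalElem
import Cfsg.Agent.Lib.PSolvable.Core

/-!
A 3-group of rank at least 4 has a normal elementary abelian subgroup of order at least 81.
-/

set_option autoImplicit false

namespace Cfsg.Agent.Lib.NormalRankFour

open Subgroup Cfsg
open scoped commutatorElement

variable {G : Type*} [Group G] [Finite G]

/-- Normalizer condition: a family of subgroups in which mutually normalizing conjugates are equal consists of normal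
subgroups. -/
theorem normal_of_conj_eq_of_normalizing (hG : Group.IsNilpotent G) (E : Subgroup G)
    (h : ∀ g : G, E ≤ normalizer ((E.map (MulAut.conj g).toMonoidHom : Subgroup G) : Set G) →
      E.map (MulAut.conj g).toMonoidHom ≤ normalizer (E : Set G) →
      E.map (MulAut.conj g).toMonoidHom = E) : E.Normal := by
  rw [← normalizer_eq_top_iff]
  by_contra hne
  haveI := hG
  have hlt := Group.normalizerCondition_of_isNilpotent (normalizer (E : Set G)) (lt_top_iff_ne_top.2 hne)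
  obtain ⟨g, hg, hgE⟩ := SetLike.exists_of_lt hlt
  apply hgE
  set N := normalizer (E : Set G) with hN
  have hgN : ∀ x, x ∈ N ↔ g * x * g⁻¹ ∈ N := mem_normalizer_iff.1 hg
  have hEN : E ≤ N := le_normalizer
  have e := h g ?_ ?_
  · rw [hN, mem_normalizer_iff]
    intro x
    constructor
    · intro hx; rw [← e]; exact ⟨x, hx, rfl⟩
    · intro hx
      rw [← e] at hx
      obtain ⟨y, hy, hyx⟩ := hx
      simp only [MulEquiv.coe_toMonoidHom, MulAut.conj_apply, mul_left_inj, mul_right_inj] at hyx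
      exact hyx ▸ hy
  · intro x hx
    rw [mem_normalizer_iff]
    intro y
    have hx' : g⁻¹ * x * g ∈ N := by
      rw [hgN]; simpa [mul_assoc] using hEN hx
    have hconj : ∀ z, z ∈ (E.map (MulAut.conj g).toMonoidHom : Subgroup G) ↔ g⁻¹ * z * g ∈ E := by
      intro z
      rw [mem_map_equiv]
      simp [MulAut.conj_symm_apply]
    rw [hconj, hconj, (mem_normalizer_iff.1 hx') (g⁻¹ * y * g)]
    have : g⁻¹ * x * g * (g⁻¹ * y * g) * (g⁻¹ * x * g)⁻¹ = g⁻¹ * (x * y * x⁻¹) * g := by group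
    rw [this]
  · rintro _ ⟨x, hx, rfl⟩
    exact (hgN x).1 (hEN hx)

theorem exists_normal_elem_ge (hG : IsPGroup 3 G) {E₀ : Subgroup G}
    (hE₀ : IsElementaryAbelian 3 E₀) (hcard₀ : 3 ^ 3 < Nat.card E₀) :
    ∃ A : Subgroup G, A.Normal ∧ IsElementaryAbelian 3 A ∧ 3 ^ 4 ≤ Nat.card A := by
  classical
  haveI := Fact.mk Nat.prime_three
  obtain ⟨A, hAn, hA, hmax⟩ := NormalElem.exists_max (G := G) 3
  obtain ⟨a, ha⟩ := IsPGroup.iff_card.1 (hG.to_subgroup A)
  by_cases ha4 : 4 ≤ a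
  · exact ⟨A, hAn, hA, ha ▸ Nat.pow_le_pow_right (by omega) ha4⟩
  obtain ⟨n₀, hn₀⟩ := IsPGroup.iff_card.1 (hG.to_subgroup E₀)
  have hE81 : 3 ^ 4 ≤ Nat.card E₀ := by
    rw [hn₀] at hcard₀ ⊢
    exact Nat.pow_le_pow_right (by omega) ((Nat.pow_lt_pow_iff_right (by omega)).1 hcard₀)
  haveI := hA.1
  set C := centralizer (A : Set G) with hC
  have halp : ∀ x ∈ C, x ^ 3 = 1 → x ∈ A := by
    have := PLemmas.mem_of_maximal_normal_abelian_exponent hG 1 (by norm_num) A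
      (by simpa using hA.2) fun B hBn hBc hBe hAB => hmax B hBn ⟨hBc, by simpa using hBe⟩ hAB
    simpa using this
  have hEC : ∀ E : Subgroup G, IsElementaryAbelian 3 E → E ⊓ C ≤ A := fun E hE x hx =>
    halp x hx.2 (hE.2 x hx.1)
  have hrelC : ∀ (E D : Subgroup G), D.Normal → Nat.card E ≤ Nat.card (E ⊓ D : Subgroup G) * D.index := by
    intro E D hD
    rw [← PSolvable.card_mul_relIndex (inf_le_left : E ⊓ D ≤ E), inf_relIndex_left]
    exact Nat.mul_le_mul_left _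
      (Nat.le_of_dvd (Nat.pos_of_ne_zero index_ne_zero_of_finite) (relIndex_dvd_index_of_normal D E))
  have hidx : C.index ≤ 3 ^ a.choose 2 := PLemmas.index_centralizer_le hG A ha
  -- the case of small `A`
  have ha3 : a = 3 := by
    by_contra h3
    have h : Nat.card E₀ ≤ 3 ^ a * 3 ^ a.choose 2 := (hrelC E₀ C inferInstance).trans
      (Nat.mul_le_mul (ha ▸ card_le_of_le (hEC E₀ hE₀)) hidx)
    have := hE81.trans h
    rw [← pow_add, Nat.pow_le_pow_iff_right (by omega)] at this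
    interval_cases a <;> simp_all [Nat.choose]
  subst ha3
  obtain ⟨K, hKn, hKA, hK⟩ := PLemmas.exists_normal_le_card_eq hG A ha (i := 2) (by omega)
  have hAK : Nat.card A ≤ 3 * Nat.card K := by rw [ha, hK]; norm_num
  have hcK : ∀ g : G, ∀ x ∈ A, g * x * g⁻¹ * x⁻¹ ∈ K := fun g x hx =>
    NormalElem.commutator_mem_of_index_le hG hAK hKA g hx
  set CK := centralizer (K : Set G) with hCK
  have hidxK : CK.index ≤ 3 := (PLemmas.index_centralizer_le hG K hK).trans (by norm_num)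
  obtain ⟨a₀, ha₀, ha₀K⟩ : ∃ x ∈ A, x ∉ K := by
    by_contra hcon
    push Not at hcon
    have := card_le_of_le (show A ≤ K from hcon)
    rw [ha, hK] at this
    norm_num at this
  have hAgen : ∀ H : Subgroup G, K ≤ H → (∃ x ∈ A, x ∈ H ∧ x ∉ K) → A ≤ H := by
    rintro H hKH ⟨x, hxA, hxH, hxK⟩
    have hlt : Nat.card K < Nat.card (H ⊓ A : Subgroup G) := by
      refine lt_of_le_of_ne (card_le_of_le (le_inf hKH hKA)) fun h => hxK ?_
      rw [eq_of_le_of_card_ge (le_inf hKH hKA) h.ge]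
      exact ⟨hxH, hxA⟩
    obtain ⟨i, hi⟩ := IsPGroup.iff_card.1 (hG.to_subgroup (H ⊓ A))
    rw [hK, hi, Nat.pow_lt_pow_iff_right (by omega)] at hlt
    have := eq_of_le_of_card_ge (inf_le_right : H ⊓ A ≤ A)
      (by rw [ha, hi]; exact Nat.pow_le_pow_right (by omega) hlt)
    rw [← this]
    exact inf_le_left
  -- `e ↦ [e, a₀]` on a subgroup centralizing `K`
  let φ : CK →* K :=
    { toFun := fun e => ⟨(e : G) * a₀ * (e : G)⁻¹ * a₀⁻¹, hcK e a₀ ha₀⟩
      map_one' := Subtype.ext (by simp)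
      map_mul' := fun e e' => Subtype.ext (by
        push_cast
        have hw : (e : G) * ((e' : G) * a₀ * (e' : G)⁻¹ * a₀⁻¹) =
            ((e' : G) * a₀ * (e' : G)⁻¹ * a₀⁻¹) * e :=
          (mem_centralizer_iff.1 e.2 _ (hcK e' a₀ ha₀)).symm
        have hc2 : ((e' : G) * a₀ * (e' : G)⁻¹ * a₀⁻¹) * ((e : G) * a₀ * (e : G)⁻¹ * a₀⁻¹) =
            ((e : G) * a₀ * (e : G)⁻¹ * a₀⁻¹) * ((e' : G) * a₀ * (e' : G)⁻¹ * a₀⁻¹) :=
          congrArg Subtype.val (hA.1.is_comm.comm (⟨_, hKA (hcK e' a₀ ha₀)⟩ : A)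
            ⟨_, hKA (hcK e a₀ ha₀)⟩)
        rw [← hc2]
        calc (e : G) * e' * a₀ * ((e : G) * e')⁻¹ * a₀⁻¹
            = ((e : G) * ((e' : G) * a₀ * (e' : G)⁻¹ * a₀⁻¹)) * a₀ * (e : G)⁻¹ * a₀⁻¹ := by group
          _ = _ := by rw [hw]; group) }
  have hker : ∀ e : CK, φ e = 1 → (e : G) ∈ C := by
    intro e he
    have h1 : (e : G) * a₀ * (e : G)⁻¹ * a₀⁻¹ = 1 := congrArg Subtype.val he
    have : A ≤ centralizer ({(e : G)} : Set G) := by
      refine hAgen _ (fun k hk => mem_centralizer_singleton_iff.2 (mem_centralizer_iff.1 e.2 k hk))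
        ⟨a₀, ha₀, mem_centralizer_singleton_iff.2 ?_, ha₀K⟩
      calc a₀ * e = 1 * a₀ * e := by rw [one_mul]
        _ = (e : G) * a₀ * (e : G)⁻¹ * a₀⁻¹ * a₀ * e := by rw [h1]
        _ = (e : G) * a₀ := by group
    exact mem_centralizer_iff.2 fun x hx => mem_centralizer_singleton_iff.1 (this hx)
  -- every elementary abelian subgroup of order at least 81 contains `K` and induces all of `K`
  have hstruct : ∀ E : Subgroup G, IsElementaryAbelian 3 E → 3 ^ 4 ≤ Nat.card E →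
      K ≤ E ∧ E ⊓ A = K ∧ E ≤ CK ∧ ∀ k ∈ K, ∃ e ∈ E, e * a₀ * e⁻¹ * a₀⁻¹ = k := by
    intro E hE h81
    set EK := E ⊓ CK with hEK
    let ψ : EK →* K := φ.comp (inclusion inf_le_right)
    have hAleEK : E ⊓ A ≤ EK := fun x hx => ⟨hx.1, mem_centralizer_iff.2 fun k hk =>
      congrArg Subtype.val (hA.1.is_comm.comm (⟨k, hKA hk⟩ : A) ⟨x, hx.2⟩)⟩
    have hkerψ : ψ.ker.map EK.subtype ≤ E ⊓ A := by
      rintro _ ⟨e, he, rfl⟩
      exact ⟨e.2.1, hEC E hE ⟨e.2.1, hker _ (MonoidHom.mem_ker.1 he)⟩⟩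
    have hEKle : Nat.card EK ≤ Nat.card (E ⊓ A : Subgroup G) * Nat.card ψ.range := by
      rw [← ψ.ker.card_mul_index, index_ker, ← card_map_of_injective EK.subtype_injective]
      exact Nat.mul_le_mul_right _ (card_le_of_le hkerψ)
    have hEK27 : 3 ^ 3 ≤ Nat.card EK := by
      have h := (hrelC E CK inferInstance).trans (Nat.mul_le_mul_left _ hidxK)
      have h4 : 3 ^ 4 ≤ Nat.card EK * 3 := h81.trans h
      omega
    obtain ⟨w, hw⟩ := IsPGroup.iff_card.1 (hG.to_subgroup (E ⊓ A))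
    obtain ⟨r, hr⟩ : ∃ r, Nat.card ψ.range = 3 ^ r := IsPGroup.iff_card.1 ((hG.to_subgroup K).to_subgroup ψ.range)
    have hr2 : r ≤ 2 := by
      have := card_le_card_group ψ.range
      rw [hr, hK] at this
      exact (Nat.pow_le_pow_iff_right (by omega)).1 this
    have hEA : Nat.card (E ⊓ A : Subgroup G) ≤ 3 ^ 2 := by
      rw [hw]
      by_contra hgt
      rw [not_le, Nat.pow_lt_pow_iff_right (by omega)] at hgt
      have hAE : A ≤ E := by
        have := eq_of_le_of_card_ge (inf_le_right : E ⊓ A ≤ A)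
          (by rw [ha, hw]; exact Nat.pow_le_pow_right (by omega) hgt)
        rw [← this]; exact inf_le_left
      have : E ≤ A := fun x hx => hEC E hE ⟨hx, mem_centralizer_iff.2 fun y hy =>
        ElemAbelian.comm hE (hAE hy) hx⟩
      have := h81.trans (card_le_of_le this)
      rw [ha] at this
      norm_num at this
    rw [hw, Nat.pow_le_pow_iff_right (by omega)] at hEA
    have hwr : 3 ≤ w + r := by
      have := hEK27.trans hEKle
      rw [hw, hr, ← pow_add] at this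
      exact (Nat.pow_le_pow_iff_right (by omega)).1 this
    -- `E ⊓ A` is nontrivial; if `E ⊄ CK` the range of `ψ` would be fixed by an element moving `K`
    have hECK : r = 2 → E ≤ CK := by
      intro hr' x hx
      refine mem_centralizer_iff.2 fun k hk => ?_
      have htop : ψ.range = ⊤ := eq_top_of_le_card _ (by rw [hr, hr', hK])
      obtain ⟨e, he⟩ := htop.ge (mem_top (⟨k, hk⟩ : K))
      have hek : (e : G) * a₀ * (e : G)⁻¹ * a₀⁻¹ = k := congrArg Subtype.val he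
      -- conjugate by `x`
      have hex : x * (e : G) = (e : G) * x := ElemAbelian.comm hE hx e.2.1
      set m := x * a₀ * x⁻¹ * a₀⁻¹ with hm
      have hme : (e : G) * m = m * e := (mem_centralizer_iff.1 e.2.2 m (hcK x a₀ ha₀)).symm
      have hmk : m * k = k * m := congrArg Subtype.val (hA.1.is_comm.comm
        (⟨m, hKA (hcK x a₀ ha₀)⟩ : A) ⟨k, hKA hk⟩)
      have hkx : x * k * x⁻¹ = k := by
        calc x * k * x⁻¹ = x * ((e : G) * a₀ * (e : G)⁻¹ * a₀⁻¹) * x⁻¹ := by rw [hek]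
          _ = (x * e) * a₀ * (e : G)⁻¹ * a₀⁻¹ * x⁻¹ := by group
          _ = ((e : G) * m) * a₀ * (x * (e : G)⁻¹) * a₀⁻¹ * x⁻¹ := by rw [hex, hm]; group
          _ = (m * e) * a₀ * ((e : G)⁻¹ * x) * a₀⁻¹ * x⁻¹ := by
              rw [hme, (Commute.inv_right (hex : Commute x (e : G))).eq]
          _ = m * ((e : G) * a₀ * (e : G)⁻¹ * a₀⁻¹) * m⁻¹ := by rw [hm]; group
          _ = k := by rw [hek, hmk, mul_inv_cancel_right]
      calc k * x = x * k * x⁻¹ * x := by rw [hkx]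
        _ = x * k := by group
    -- `w = 2`
    have hw2 : w = 2 := by
      by_contra hw2
      have hr' : r = 2 := by omega
      have hle := hECK hr'
      have h : Nat.card EK = Nat.card E := by rw [hEK, inf_eq_left.2 hle]
      rw [h, hw, hr, ← pow_add] at hEKle
      have := (Nat.pow_le_pow_iff_right (by omega)).1 (h81.trans hEKle)
      omega
    -- `E ⊓ A = K`
    have hEAeq : E ⊓ A ≤ K := by
      by_contra hne
      obtain ⟨x, hx, hxK⟩ := SetLike.not_le_iff_exists.1 hne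
      -- all of `E ⊓ CK` centralizes `A`
      have : EK ≤ E ⊓ A := fun y hy => ⟨hy.1, hEC E hE ⟨hy.1, mem_centralizer_iff.2 fun z hz => by
        have hAz : A ≤ centralizer ({y} : Set G) := hAgen _
          (fun k hk => mem_centralizer_singleton_iff.2 (mem_centralizer_iff.1 hy.2 k hk))
          ⟨x, hx.2, mem_centralizer_singleton_iff.2 (ElemAbelian.comm hE hx.1 hy.1), hxK⟩
        exact mem_centralizer_singleton_iff.1 (hAz hz)⟩⟩
      have := hEK27.trans (card_le_of_le this)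
      rw [hw, hw2] at this
      norm_num at this
    have hKE : K = E ⊓ A :=
      (eq_of_le_of_card_ge hEAeq (by rw [hK, hw, hw2])).symm
    have hle : E ≤ CK := fun y hy => mem_centralizer_iff.2 fun k hk => by
      rw [hKE] at hk
      exact ElemAbelian.comm hE hk.1 hy
    refine ⟨hKE.le.trans inf_le_left, hKE.symm, hle, fun k hk => ?_⟩
    have hr' : r = 2 := by
      have h : Nat.card EK = Nat.card E := by rw [hEK, inf_eq_left.2 hle]
      rw [h, hw, hw2, hr, ← pow_add] at hEKle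
      have := (Nat.pow_le_pow_iff_right (by omega)).1 (h81.trans hEKle)
      omega
    have htop : ψ.range = ⊤ := eq_top_of_le_card _ (by rw [hr, hr', hK])
    obtain ⟨e, he⟩ := htop.ge (mem_top (⟨k, hk⟩ : K))
    exact ⟨e, e.2.1, congrArg Subtype.val he⟩
  -- mutually normalizing such subgroups are equal
  have huniq : ∀ E₁ E₂ : Subgroup G, IsElementaryAbelian 3 E₁ → 3 ^ 4 ≤ Nat.card E₁ →
      IsElementaryAbelian 3 E₂ → 3 ^ 4 ≤ Nat.card E₂ → E₁ ≤ normalizer (E₂ : Set G) →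
      E₂ ≤ normalizer (E₁ : Set G) → E₂ ≤ E₁ := by
    intro E₁ E₂ h₁ hc₁ h₂ hc₂ hn₁ hn₂
    obtain ⟨hK₁, hA₁, hC₁, hs₁⟩ := hstruct E₁ h₁ hc₁
    obtain ⟨hK₂, hA₂, hC₂, hs₂⟩ := hstruct E₂ h₂ hc₂
    have hsplit : ∀ e₂ ∈ E₂, ∃ e₁ ∈ E₁, e₁⁻¹ * e₂ ∈ A := by
      intro e₂ he₂
      obtain ⟨e₁, he₁, he⟩ := hs₁ _ (hcK e₂ a₀ ha₀)
      refine ⟨e₁, he₁, halp _ (hker ⟨_, mul_mem (inv_mem (hC₁ he₁)) (hC₂ he₂)⟩ ?_) ?_⟩
      · have e : φ ⟨e₁, hC₁ he₁⟩ = φ ⟨e₂, hC₂ he₂⟩ := Subtype.ext he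
        have : φ ((⟨e₁, hC₁ he₁⟩ : CK)⁻¹ * ⟨e₂, hC₂ he₂⟩) = 1 := by
          rw [map_mul, map_inv, e, inv_mul_cancel]
        exact this
      · set x := e₁⁻¹ with hx
        have hx₁ : x ∈ E₁ := inv_mem he₁
        set c := e₂ * x * e₂⁻¹ * x⁻¹ with hc
        have hc₁' : c ∈ E₁ := mul_mem ((mem_normalizer_iff.1 (hn₂ he₂) x).1 hx₁) (inv_mem hx₁)
        have hc₂' : c ∈ E₂ := by
          have : c = e₂ * (x * e₂⁻¹ * x⁻¹) := by rw [hc]; group
          rw [this]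
          exact mul_mem he₂ ((mem_normalizer_iff.1 (hn₁ hx₁) _).1 (inv_mem he₂))
        rw [PGroupNormalSq.pow_mul_central (c := c) (by rw [hc]; group)
          (ElemAbelian.comm h₁ hc₁' hx₁) (ElemAbelian.comm h₂ hc₂' he₂) 3, h₁.2 x hx₁, h₂.2 e₂ he₂,
          show Nat.choose 3 2 = 3 by rfl, h₁.2 c hc₁', one_mul, one_mul]
    intro e₂ he₂
    obtain ⟨e₁, he₁, hh⟩ := hsplit e₂ he₂
    by_cases hhK : e₁⁻¹ * e₂ ∈ K
    · simpa using mul_mem he₁ (hK₁ hhK)
    exfalso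
    set h := e₁⁻¹ * e₂ with hhdef
    have hmk : ∀ x ∈ A, ∀ y ∈ A, x * y = y * x := fun x hx y hy => ElemAbelian.comm hA hx hy
    -- the images of all elements of `E₁` lie in a cyclic group
    have hAle : A ≤ K ⊔ zpowers h :=
      hAgen _ le_sup_left ⟨h, hh, mem_sup_right (mem_zpowers h), hhK⟩
    have hrange : ∀ k ∈ K, k ∈ zpowers (e₁ * h * e₁⁻¹ * h⁻¹) := by
      intro k hk
      -- realise `k` as `[f₁, h]`, using that `h` generates `A` modulo `K`
      obtain ⟨i, hi⟩ : ∃ i : ℤ, a₀ * (h ^ i)⁻¹ ∈ K := by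
        have := hAle ha₀
        rw [← SetLike.mem_coe, normal_mul] at this
        obtain ⟨k', hk', _, ⟨i, rfl⟩, he⟩ := Set.mem_mul.1 this
        exact ⟨i, by rw [← he, mul_inv_cancel_right]; exact hk'⟩
      obtain ⟨f₂, hf₂, hf⟩ := hs₂ k hk
      obtain ⟨f₁, hf₁, hh'⟩ := hsplit f₂ hf₂
      have hfh : ∀ f ∈ E₁, ∀ y ∈ K, f * y = y * f := fun f hf y hy =>
        ElemAbelian.comm h₁ hf (hK₁ hy)
      -- write `h' = k'' * h ^ j`
      obtain ⟨k'', hk'', j, hj⟩ : ∃ k'' ∈ K, ∃ j : ℤ, f₁⁻¹ * f₂ = k'' * h ^ j := by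
        have := hAle hh'
        rw [← SetLike.mem_coe, normal_mul] at this
        obtain ⟨k', hk', _, ⟨j, rfl⟩, he⟩ := Set.mem_mul.1 this
        exact ⟨k', hk', j, he.symm⟩
      have hcomm : Commute e₂ f₂ := ElemAbelian.comm h₂ he₂ hf₂
      set g₁ := f₁ * k'' with hg₁
      have hg₁E : g₁ ∈ E₁ := mul_mem hf₁ (hK₁ hk'')
      have hf₂g : f₂ = g₁ * h ^ j := by
        rw [hg₁, mul_assoc, ← hj, mul_inv_cancel_left]
      -- commutators
      set c := fun f => f * h * f⁻¹ * h⁻¹ with hc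
      have hcj : ∀ f, f ∈ E₁ → ∀ m : ℤ, f * h ^ m * f⁻¹ = (c f) ^ m * h ^ m := by
        intro f hf m
        rw [← conj_zpow, ← (show Commute (c f) h from hmk _ (hKA (hcK f h hh)) _ hh).mul_zpow]
        congr 1
        simp only [hc]; group
      have he₂h : e₂ = e₁ * h := by rw [hhdef, mul_inv_cancel_left]
      have hkey : (c g₁) = (c e₁) ^ j := by
        have hce₁ : c e₁ ∈ K := hcK e₁ h hh
        have hcg₁ : c g₁ ∈ K := hcK g₁ h hh
        have hhe₁ : g₁ * e₁ = e₁ * g₁ := ElemAbelian.comm h₁ hg₁E he₁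
        have h5 : e₁ * h * (g₁ * h ^ j) = (g₁ * h ^ j) * (e₁ * h) := by
          rw [← he₂h, ← hf₂g]; exact hcomm.eq
        have l1 : e₁ * h * (g₁ * h ^ j) = (e₁ * g₁) * ((c g₁)⁻¹ * h ^ (j + 1)) := by
          have : g₁⁻¹ * h * g₁ = (c g₁)⁻¹ * h := by
            have h6 : g₁ * ((c g₁)⁻¹ * h) = h * g₁ := by
              rw [← mul_assoc, hfh g₁ hg₁E _ (inv_mem hcg₁)]
              simp only [hc]; group
            rw [mul_assoc, ← h6]; group
          calc e₁ * h * (g₁ * h ^ j) = (e₁ * g₁) * ((g₁⁻¹ * h * g₁) * h ^ j) := by group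
            _ = _ := by rw [this]; group
        have l2 : (g₁ * h ^ j) * (e₁ * h) = (e₁ * g₁) * (((c e₁) ^ j)⁻¹ * h ^ (j + 1)) := by
          have : e₁⁻¹ * h ^ j * e₁ = ((c e₁) ^ j)⁻¹ * h ^ j := by
            have h6 : e₁ * (((c e₁) ^ j)⁻¹ * h ^ j) = h ^ j * e₁ := by
              rw [← mul_assoc, hfh e₁ he₁ _ (inv_mem (zpow_mem hce₁ j))]
              calc ((c e₁) ^ j)⁻¹ * e₁ * h ^ j
                  = ((c e₁) ^ j)⁻¹ * (e₁ * h ^ j * e₁⁻¹) * e₁ := by group
                _ = h ^ j * e₁ := by rw [hcj e₁ he₁ j]; group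
            rw [mul_assoc, ← h6]; group
          calc (g₁ * h ^ j) * (e₁ * h) = (g₁ * e₁) * ((e₁⁻¹ * h ^ j * e₁) * h) := by group
            _ = _ := by rw [this, hhe₁]; group
        rw [l1, l2] at h5
        exact inv_injective (mul_right_cancel (mul_left_cancel h5))
      -- transfer from `h` to `a₀`
      have hfix : f₂ * a₀ * f₂⁻¹ * a₀⁻¹ = (c g₁) ^ i := by
        obtain ⟨k₀, hk₀, hk₀'⟩ : ∃ k₀ ∈ K, a₀ = k₀ * h ^ i :=
          ⟨_, hi, (inv_mul_cancel_right _ _).symm⟩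
        have hhj : h ^ j * a₀ = a₀ * h ^ j := hmk _ (zpow_mem hh j) _ ha₀
        calc f₂ * a₀ * f₂⁻¹ * a₀⁻¹ = g₁ * (h ^ j * a₀ * (h ^ j)⁻¹) * g₁⁻¹ * a₀⁻¹ := by
              rw [hf₂g]; group
          _ = g₁ * a₀ * g₁⁻¹ * a₀⁻¹ := by rw [hhj, mul_inv_cancel_right]
          _ = (g₁ * k₀) * h ^ i * g₁⁻¹ * (h ^ i)⁻¹ * k₀⁻¹ := by rw [hk₀']; group
          _ = k₀ * (g₁ * h ^ i * g₁⁻¹) * (h ^ i)⁻¹ * k₀⁻¹ := by rw [hfh g₁ hg₁E k₀ hk₀]; group
          _ = k₀ * (c g₁) ^ i * k₀⁻¹ := by rw [hcj g₁ hg₁E i]; group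
          _ = (c g₁) ^ i := by
              rw [hmk _ (hKA hk₀) _ (hKA (zpow_mem (hcK g₁ h hh) i)), mul_inv_cancel_right]
      rw [← hf, hfix, hkey]
      exact zpow_mem (zpow_mem (mem_zpowers _) j) i
    have hle := card_le_of_le (show K ≤ zpowers (e₁ * h * e₁⁻¹ * h⁻¹) from hrange)
    rw [hK, Nat.card_zpowers] at hle
    have := Nat.le_of_dvd (by omega)
      (orderOf_dvd_of_pow_eq_one (hA.2 _ (hKA (hcK e₁ h hh))))
    omega
  refine ⟨E₀, normal_of_conj_eq_of_normalizing hG.isNilpotent E₀ fun g h1 h2 => ?_, hE₀, hE81⟩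
  set E₁ := E₀.map (MulAut.conj g).toMonoidHom
  have hcE : Nat.card E₁ = Nat.card E₀ := card_map_of_injective (MulAut.conj g).injective
  exact le_antisymm (huniq E₀ E₁ hE₀ hE81 (ElemAbelian.map hE₀ _) (hcE ▸ hE81) h1 h2)
    (huniq E₁ E₀ (ElemAbelian.map hE₀ _) (hcE ▸ hE81) hE₀ hE81 h2 h1)

end Cfsg.Agent.Lib.NormalRankFour
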