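import Mathlib
import Cfsg.Agent.Lib.PGroup.StableClosure
import Cfsg.Agent.Lib.Coprime.Quotient
import Cfsg.Agent.S0604
import Cfsg.Agent.S0607

/-!
`W(S)` is normal in an action-`p`-stable group of characteristic `p`.
-/

set_option autoImplicit false

namespace Cfsg.Agent.Lib.StableClosure

open Subgroup
open scoped commutatorElement

universe u

variable {G : Type u} [Group G] {p : ℕ}

/-- `W(P)` viewed inside the ambient group. -/
def inside (p : ℕ) (P : Subgroup G) : Subgroup G := (stableNormalClosure p P).map P.subtype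

theorem inside_le (P : Subgroup G) : inside p P ≤ P := map_subtype_le _

theorem inside_map {G' : Type u} [Group G'] {f : G →* G'} (hf : Function.Injective f)
    (P : Subgroup G) : inside p (P.map f) = (inside p P).map f := by
  rw [inside, inside, ← map_equiv (P.equivMapOfInjective f hf), Subgroup.map_map, Subgroup.map_map]
  rfl

theorem normalizer_le_normalizer_inside (P : Subgroup G) :
    normalizer (P : Set G) ≤ normalizer (inside p P : Set G) := by
  have := characteristic (S := P) (p := p)
  exact Coprime.normalizer_le_normalizer_map_of_characteristic (stableNormalClosure p P)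

theorem isElementaryAbelian_inside [Finite G] (P : Subgroup G) :
    IsElementaryAbelian p (inside p P) :=
  ElemAbelian.map isElementaryAbelian _

theorem mem_centralizer_of_quadratic [Finite G] [Fact p.Prime] {T : Subgroup G} {x : G} (hx : x ∈ T)
    (hq : ⁅⁅inside p T, zpowers x⁆, zpowers x⁆ = ⊥) : x ∈ centralizer (inside p T : Set G) := by
  have hz : zpowers x = (zpowers (⟨x, hx⟩ : T)).map T.subtype := by
    rw [MonoidHom.map_zpowers]; rfl
  rw [inside, hz, ← map_commutator, ← map_commutator,
    map_eq_bot_iff_of_injective _ (subtype_injective T)] at hq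
  have h := commutator_eq_bot_of_quadratic hq
  rw [commutator_eq_bot_iff_le_centralizer] at h
  rw [mem_centralizer_iff]
  rintro _ ⟨w, hw, rfl⟩
  exact (congrArg Subtype.val (mem_centralizer_iff.1 (h hw) ⟨x, hx⟩ (mem_zpowers _))).symm

theorem quadratic_congr {V : Subgroup G} [V.Normal] {a r : G}
    (hra : a⁻¹ * r ∈ centralizer (V : Set G))
    (hq : ⁅⁅V, zpowers a⁆, zpowers a⁆ = ⊥) : ⁅⁅V, zpowers r⁆, zpowers r⁆ = ⊥ := by
  set f := QuotientGroup.mk' (centralizer (V : Set G)) with hf
  have hfr : f r = f a := ((QuotientGroup.eq).2 hra).symm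
  have key : ∀ k : ℤ, ∀ v ∈ V, a ^ k * v * (a ^ k)⁻¹ = r ^ k * v * (r ^ k)⁻¹ := by
    intro k v hv
    have h1 : (a ^ k)⁻¹ * r ^ k ∈ centralizer (V : Set G) := by
      apply (QuotientGroup.eq_one_iff _).1
      change f ((a ^ k)⁻¹ * r ^ k) = 1
      rw [map_mul, map_inv, map_zpow, map_zpow, hfr, inv_mul_cancel]
    have h2 := mem_centralizer_iff.1 h1 v hv
    calc a ^ k * v * (a ^ k)⁻¹ = a ^ k * (v * ((a ^ k)⁻¹ * r ^ k)) * (r ^ k)⁻¹ := by
          simp [mul_assoc]
      _ = r ^ k * v * (r ^ k)⁻¹ := by rw [h2]; simp [mul_assoc]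
  have hV : ⁅V, zpowers a⁆ ≤ V := commutator_le_left ..
  have hle : ⁅V, zpowers r⁆ ≤ ⁅V, zpowers a⁆ := by
    rw [Subgroup.commutator_le]
    rintro v hv _ ⟨k, rfl⟩
    have : ⁅v, r ^ k⁆ = ⁅v, a ^ k⁆ := by
      simp only [commutatorElement_def]
      calc v * r ^ k * v⁻¹ * (r ^ k)⁻¹ = v * (r ^ k * v⁻¹ * (r ^ k)⁻¹) := by simp [mul_assoc]
        _ = v * (a ^ k * v⁻¹ * (a ^ k)⁻¹) := by rw [key k _ (inv_mem hv)]
        _ = v * a ^ k * v⁻¹ * (a ^ k)⁻¹ := by simp [mul_assoc]
    exact this ▸ commutator_mem_commutator hv ⟨k, rfl⟩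
  rw [commutator_eq_bot_iff_le_centralizer] at hq ⊢
  intro w hw
  rw [mem_centralizer_iff]
  rintro _ ⟨k, rfl⟩
  have h1 := mem_centralizer_iff.1 (hq (hle hw)) (a ^ k) ⟨k, rfl⟩
  have h2 := key k w (hV (hle hw))
  rw [h1, mul_inv_cancel_right] at h2
  exact (mul_inv_eq_iff_eq_mul.1 h2.symm)

theorem isPGroup_sectionKernel [Finite G] [Fact p.Prime]
    (hc : centralizer (pCore p G : Set G) ≤ pCore p G) :
    IsPGroup p (sectionKernel (pCore p G) ((frattini ↥(pCore p G)).map (pCore p G).subtype)) := by
  set O := pCore p G with hO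
  set Φ := (frattini ↥O).map O.subtype with hΦ
  rintro ⟨g, hg⟩
  obtain ⟨a, m, hpm, hm⟩ := Nat.exists_eq_pow_mul_and_not_dvd (orderOf_pos g).ne' p
    (Fact.out : p.Prime).ne_one
  refine ⟨a, Subtype.ext ?_⟩
  change g ^ p ^ a = 1
  set y := g ^ p ^ a with hy
  have hyo : orderOf y = m := by
    rw [hy, orderOf_pow_of_dvd (pow_pos (Fact.out : p.Prime).pos a).ne' ⟨m, hm⟩, hm,
      Nat.mul_div_cancel_left _ (pow_pos (Fact.out : p.Prime).pos a)]
  have hmp : m.Coprime p := ((Fact.out : p.Prime).coprime_iff_not_dvd.2 hpm).symm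
  obtain ⟨k, hk⟩ := IsPGroup.iff_card.1 ((PSolvable.pCore_isPGroup (p := p) (G := G)).to_subgroup
    (frattini ↥O))
  have hcent : zpowers y ≤ centralizer (O : Set G) := by
    refine Coprime.le_centralizer_of_frattini (by rw [normalizer_eq_top]; exact le_top) ?_ ?_
    · rw [Nat.card_zpowers, hyo, hk]
      exact hmp.pow_right k
    · rintro _ ⟨i, rfl⟩ x hx
      have hyK : y ^ i ∈ sectionKernel O Φ := zpow_mem (pow_mem hg _) i
      have h1 := mem_centralizer_iff.1 (mem_comap.1 hyK) _
        (mem_map_of_mem (QuotientGroup.mk' Φ) hx)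
      apply (QuotientGroup.eq_one_iff _).1
      change QuotientGroup.mk' Φ (y ^ i * x * (y ^ i)⁻¹ * x⁻¹) = 1
      rw [map_mul, map_mul, map_mul, map_inv, map_inv, ← h1]
      simp [mul_assoc]
  obtain ⟨j, hj'⟩ := PSolvable.pCore_isPGroup (p := p) (G := G) ⟨y, hc (hcent (mem_zpowers y))⟩
  have hj : y ^ p ^ j = 1 := congrArg Subtype.val hj'
  have h1 : orderOf y ∣ p ^ j := orderOf_dvd_of_pow_eq_one hj
  rw [hyo] at h1
  have : m = 1 := Nat.Coprime.eq_one_of_dvd (hmp.pow_right j) h1
  rwa [← orderOf_eq_one_iff, hyo]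

/-- An element whose action on `O_p(G)/Φ` is quadratic lies in `O_p(G)`. -/
theorem mem_pCore_of_quadratic [Finite G] [Fact p.Prime] (hst : IsActionPStable p G)
    (hc : centralizer (pCore p G : Set G) ≤ pCore p G) {x : G}
    (hq : ⁅⁅pCore p G, zpowers x⁆, zpowers x⁆ = ⊥) : x ∈ pCore p G := by
  obtain ⟨D, hD, hKD, ⟨k, hk⟩, hxD⟩ := hst.2.1 x (hq ▸ bot_le)
  obtain ⟨n, hn⟩ := IsPGroup.iff_card.1 (isPGroup_sectionKernel hc)
  refine PSolvable.le_pCore (IsPGroup.of_card (n := n + k) ?_) hxD
  rw [← PSolvable.card_mul_relIndex hKD, hk, hn, pow_add]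

theorem normal_inside [Finite G] [Fact p.Prime] (hst : IsActionPStable p G)
    (hc : centralizer (pCore p G : Set G) ≤ pCore p G) (S : Sylow p G) :
    (inside p (S : Subgroup G)).Normal := by
  set O := pCore p G with hOdef
  set J := thompsonSubgroupOf p (S : Subgroup G) with hJ
  set N := normalizer (J : Set G) with hN
  have hSN : (S : Subgroup G) ≤ N :=
    le_normalizer.trans (Thompson.normalizer_le p (S : Subgroup G))
  have hWS : ∀ T : Sylow p G, O ≤ normalizer (inside p (T : Subgroup G) : Set G) := fun T =>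
    (PSolvable.pCore_le_sylow T).trans (le_normalizer.trans (normalizer_le_normalizer_inside _))
  -- `W(S)` is normal in `N`
  have hNW : N ≤ normalizer (inside p (S : Subgroup G) : Set G) := by
    set τ : ↥(S : Subgroup G) →* N := inclusion hSN with hτ
    have hON : O ≤ N := (PSolvable.pCore_le_sylow S).trans hSN
    have hON' : O.subgroupOf N ≤ pCore p N :=
      PSolvable.le_pCore PSolvable.pCore_isPGroup.comap_subtype
    have hemb : IsStableEmbedding p τ := by
      refine ⟨inclusion_injective hSN, inferInstance, ⟨S.subtype hSN, ?_⟩, ?_, ?_, ?_⟩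
      · rw [Sylow.coe_subtype, inclusion_range]
      · intro y hy
        refine hON' (hc ?_)
        rw [mem_centralizer_iff]
        intro z hz
        exact congrArg Subtype.val
          (mem_centralizer_iff.1 hy ⟨z, hON hz⟩ (hON' (show (⟨z, hON hz⟩ : N) ∈ O.subgroupOf N from hz)))
      · have heq : (thompsonSubgroup p ↥(S : Subgroup G)).map τ = J.subgroupOf N := by
          refine map_injective (subtype_injective N) ?_
          rw [Subgroup.map_map, subgroupOf_map_subtype, inf_of_le_left (hN ▸ le_normalizer : J ≤ N)]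
          rfl
        rw [heq]
        exact normal_in_normalizer
      · intro V _ hV
        refine hst.2.2 S V ?_
        refine (map_mono hV).trans ?_
        rw [Subgroup.map_map]
        rfl
    intro n hn
    rw [mem_normalizer_iff]
    have h := normal_map τ hemb
    have key : ∀ m : N, ∀ y ∈ inside p (S : Subgroup G),
        (m : G) * y * (m : G)⁻¹ ∈ inside p (S : Subgroup G) := by
      rintro m _ ⟨w, hw, rfl⟩
      obtain ⟨w', hw', hw''⟩ := h.conj_mem _ (mem_map_of_mem τ hw) m
      exact ⟨w', hw', congrArg Subtype.val hw''⟩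
    intro y
    refine ⟨key ⟨n, hn⟩ y, fun hy => ?_⟩
    have := key ⟨n⁻¹, inv_mem hn⟩ _ hy
    simpa [mul_assoc] using this
  -- the normal closure
  set V : Subgroup G := ⨆ T : Sylow p G, inside p (T : Subgroup G) with hVdef
  have hle : ∀ T : Sylow p G, inside p (T : Subgroup G) ≤ O := by
    intro T x hx
    refine mem_pCore_of_quadratic hst hc ?_
    have h1 : ⁅O, zpowers x⁆ ≤ inside p (T : Subgroup G) :=
      (commutator_mono le_rfl (zpowers_le.2 hx)).trans
        (le_normalizer_iff_commutator_le_right.1 (hWS T))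
    rw [commutator_eq_bot_iff_le_centralizer]
    refine h1.trans ((ElemAbelian.le_centralizer (isElementaryAbelian_inside _)).trans
      (centralizer_le ?_))
    exact SetLike.coe_subset_coe.2 (zpowers_le.2 hx)
  have hVe : IsElementaryAbelian p V := by
    refine ElemAbelian.iSup (fun T => isElementaryAbelian_inside _) fun T T' a ha b hb => ?_
    have haT : a ∈ (T' : Subgroup G) := PSolvable.pCore_le_sylow T' (hle T ha)
    have hq : ⁅⁅inside p (T' : Subgroup G), zpowers a⁆, zpowers a⁆ = ⊥ := by
      have h1 : ⁅inside p (T' : Subgroup G), zpowers a⁆ ≤ inside p (T : Subgroup G) :=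
        (commutator_mono (hle T') (zpowers_le.2 ha)).trans
          (le_normalizer_iff_commutator_le_right.1 (hWS T))
      rw [commutator_eq_bot_iff_le_centralizer]
      exact h1.trans ((ElemAbelian.le_centralizer (isElementaryAbelian_inside _)).trans
        (centralizer_le (SetLike.coe_subset_coe.2 (zpowers_le.2 ha))))
    exact (mem_centralizer_iff.1 (mem_centralizer_of_quadratic haT hq) b hb).symm
  have hVn : V.Normal := by
    constructor
    intro x hx g
    have key : V.map (MulAut.conj g).toMonoidHom ≤ V := by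
      rw [hVdef, Subgroup.map_iSup]
      refine iSup_le fun T => ?_
      rw [← inside_map (MulAut.conj g).injective]
      exact le_iSup_of_le (g • T) (le_of_eq (by rw [Sylow.coe_subgroup_smul, Subgroup.pointwise_smul_def]; rfl))
    exact key (mem_map_of_mem (MulAut.conj g).toMonoidHom hx)
  set C := centralizer (V : Set G) with hC
  have hJC : thompsonSubgroup p G ≤ C := by
    rw [thompsonSubgroup, sSup_le_iff]
    intro A hA
    by_contra hAC
    have hne : ⁅V, A⁆ ≠ ⊥ := fun h => hAC (le_centralizer_iff.1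
      (commutator_eq_bot_iff_le_centralizer.1 h))
    obtain ⟨hA₀, hquad, hnt⟩ := S0607.result V hVe A hA
    refine hnt hne (commutator_eq_bot_iff_le_centralizer.2 (le_centralizer_iff.1 ?_))
    intro a ha
    rw [mem_centralizer_iff]
    intro v hv
    suffices h : V ≤ centralizer ({a} : Set G) by exact mem_centralizer_singleton_iff.1 (h hv)
    have hqa : ⁅⁅V, zpowers a⁆, zpowers a⁆ = ⊥ :=
      le_bot_iff.1 ((commutator_mono (commutator_mono le_rfl (zpowers_le.2 ha))
        (zpowers_le.2 ha)).trans hquad.le)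
    have hmk := hst.1 V hVe a hqa
    refine iSup_le fun T => ?_
    obtain ⟨r, hr, hra⟩ := PSolvable.pCore_le_sylow
      (T.mapSurjective (QuotientGroup.mk'_surjective C)) hmk
    have hra' : a⁻¹ * r ∈ C := by
      rw [← QuotientGroup.eq]
      exact hra.symm
    have hqr := quadratic_congr hra' hqa
    have hTV : inside p (T : Subgroup G) ≤ V := le_iSup (fun T : Sylow p G => inside p (T : Subgroup G)) T
    have hrW := mem_centralizer_of_quadratic hr (le_bot_iff.1
      ((commutator_mono (commutator_mono hTV le_rfl) le_rfl).trans hqr.le))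
    intro w hw
    rw [mem_centralizer_singleton_iff]
    have h1 := mem_centralizer_iff.1 hrW w hw
    have h2 := mem_centralizer_iff.1 hra' w (hTV hw)
    calc w * a = w * r * (a⁻¹ * r)⁻¹ := by simp [mul_assoc]
      _ = r * (w * (a⁻¹ * r)⁻¹) := by rw [h1, mul_assoc]
      _ = r * ((a⁻¹ * r)⁻¹ * w) := by rw [(show Commute w (a⁻¹ * r) from h2).inv_right.eq]
      _ = a * w := by simp [mul_assoc]
  set R := (S : Subgroup G) ⊓ C with hR
  have hJR : J ≤ R := le_inf (Thompson.thompsonSubgroupOf_le _ _)
    (((S0604.result (G := G) (p := p)).ge.trans' (le_iSup_of_le S le_rfl)).trans hJC)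
  have hRN : normalizer (R : Set G) ≤ N := by
    have heq : thompsonSubgroupOf p R = J := Thompson.thompsonSubgroupOf_eq_of_le hJR inf_le_left
    rw [hN, ← heq]
    exact Thompson.normalizer_le p R
  rw [← normalizer_eq_top_iff, eq_top_iff, ← SylowNormal.normalizer_inf_sup S C]
  refine sup_le (hRN.trans hNW) ?_
  refine le_trans ?_ (centralizer_le_normalizer _)
  exact centralizer_le (SetLike.coe_subset_coe.2
    (le_iSup (fun T : Sylow p G => inside p (T : Subgroup G)) S))

end Cfsg.Agent.Lib.StableClosure
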